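import Groth.Agent.StackCount.K869.PtSub
import Groth.Agent.StackCount.K815.TwPts

/-!
# Semidirect products: the retraction onto the complement, and the comparison of masses
-/

set_option autoImplicit false
set_option linter.unusedSectionVars false
universe u
open CategoryTheory Limits MonoidalCategory CartesianMonoidalCategory MonObj GrpObj AlgebraicGeometry

namespace K869.Semi

section ret

variable {S : Scheme.{u}} {G H U T : Over S} [GrpObj G] [GrpObj H] [GrpObj U]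
  (iH : H ⟶ G) (iU : U ⟶ G) [IsMonHom iH] [IsMonHom iU]
  [hsd : IsIso ((fst H U ≫ iH) * (snd H U ≫ iU))]

/-- The retraction of the semidirect product onto the complement. -/
noncomputable def ret : G ⟶ H := inv ((fst H U ≫ iH) * (snd H U ≫ iU)) ≫ fst H U

theorem lift_comp (h : T ⟶ H) (u : T ⟶ U) :
    lift h u ≫ ((fst H U ≫ iH) * (snd H U ≫ iU)) = (h ≫ iH) * (u ≫ iU) := by
  rw [MonObj.comp_mul, lift_fst_assoc, lift_snd_assoc]

theorem ret_eq (h : T ⟶ H) (u : T ⟶ U) : ((h ≫ iH) * (u ≫ iU)) ≫ ret iH iU = h := by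
  rw [← lift_comp, ret, Category.assoc, IsIso.hom_inv_id_assoc, lift_fst]

theorem exists_decomp (g : T ⟶ G) : ∃ u : T ⟶ U, g = ((g ≫ ret iH iU) ≫ iH) * (u ≫ iU) := by
  refine ⟨g ≫ inv ((fst H U ≫ iH) * (snd H U ≫ iU)) ≫ snd H U, ?_⟩
  rw [← lift_comp]
  have h1 : lift (g ≫ ret iH iU) (g ≫ inv ((fst H U ≫ iH) * (snd H U ≫ iU)) ≫ snd H U) =
      g ≫ inv ((fst H U ≫ iH) * (snd H U ≫ iU)) := by
    ext1
    · rw [lift_fst, ret, Category.assoc]
    · rw [lift_snd, Category.assoc]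
  rw [h1, Category.assoc, IsIso.inv_hom_id, Category.comp_id]

theorem ret_iH (h : T ⟶ H) : (h ≫ iH) ≫ ret iH iU = h := by
  have h1 := ret_eq iH iU h (1 : T ⟶ U)
  rwa [MonObj.one_comp, _root_.mul_one] at h1

theorem ret_iU (u : T ⟶ U) : (u ≫ iU) ≫ ret iH iU = 1 := by
  have h1 := ret_eq iH iU (1 : T ⟶ H) u
  rwa [MonObj.one_comp, _root_.one_mul] at h1

theorem ret_mul (hUn : AlgGrp.IsNormalHom iU) (g g' : T ⟶ G) :
    (g * g') ≫ ret iH iU = (g ≫ ret iH iU) * (g' ≫ ret iH iU) := by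
  obtain ⟨u, hu⟩ := exists_decomp iH iU g
  obtain ⟨u', hu'⟩ := exists_decomp iH iU g'
  obtain ⟨u'', hu''⟩ := hUn T (((g' ≫ ret iH iU) ≫ iH)⁻¹) u
  rw [_root_.inv_inv] at hu''
  have h1 : g * g' = (((g ≫ ret iH iU) * (g' ≫ ret iH iU)) ≫ iH) * ((u'' * u') ≫ iU) := by
    rw [MonObj.mul_comp, MonObj.mul_comp, ← hu'']
    conv_lhs => rw [hu, hu']
    group
  rw [h1, ret_eq]

theorem ret_eq_one_iff (g : T ⟶ G) : g ≫ ret iH iU = 1 ↔ ∃ u : T ⟶ U, u ≫ iU = g := by
  constructor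
  · intro h
    obtain ⟨u, hu⟩ := exists_decomp iH iU g
    rw [h, MonObj.one_comp, _root_.one_mul] at hu
    exact ⟨u, hu.symm⟩
  · rintro ⟨u, rfl⟩
    exact ret_iU iH iU u

end ret

section main

open K815.Frob K815.PtsBC K815.TwLang GalTw K869.PtSub K815.Mass

variable {k : Type u} [Field k] [Finite k] {kb : Type u} [Field kb] [Algebra k kb] [IsAlgClosed kb]
  {G H U : Over (Spec (CommRingCat.of k))} [GrpObj G] [GrpObj H] [GrpObj U]
  (iH : H ⟶ G) (iU : U ⟶ G) [IsMonHom iH] [IsMonHom iU] [Mono iU]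
  [hsd : IsIso ((fst H U ≫ iH) * (snd H U ≫ iU))] (hUn : AlgGrp.IsNormalHom iU)
  [Smooth U.hom] [ConnectedSpace U.left]

/-- The retraction on points. -/
noncomputable def retP (kb : Type u) [Field kb] [Algebra k kb] : SGA7.Pts kb G →* SGA7.Pts kb H where
  toFun g := g ≫ ret iH iU
  map_one' := by
    have h1 := ret_iH iH iU (1 : SGA7.Pts kb H)
    rwa [MonObj.one_comp] at h1
  map_mul' _ _ := ret_mul iH iU hUn _ _

/-- The inclusion on points. -/
noncomputable def incP (kb : Type u) [Field kb] [Algebra k kb] {H G : Over (Spec (CommRingCat.of k))} [GrpObj G]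
    [GrpObj H] (iH : H ⟶ G) [IsMonHom iH] : SGA7.Pts kb H →* SGA7.Pts kb G where
  toFun g := g ≫ iH
  map_one' := MonObj.one_comp _
  map_mul' _ _ := MonObj.mul_comp _ _ _

instance smooth_bcK (U : Over (Spec (CommRingCat.of k))) [Smooth U.hom] : Smooth (bcK kb U).hom := by
  change Smooth (pullback.snd _ _)
  infer_instance

instance isAffineHom_bcK (U : Over (Spec (CommRingCat.of k))) [IsAffineHom U.hom] : IsAffineHom (bcK kb U).hom := by
  change IsAffineHom (pullback.snd _ _)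
  infer_instance

include hUn in
/-- Lang's theorem for `U` and every twist by a point of `G`. -/
theorem lang_U {π : kb ≃ₐ[k] kb} (hπ : ∀ x, π x = x ^ Nat.card k) (b : SGA7.Pts kb G) (u : SGA7.Pts kb U) :
    ∃ v : SGA7.Pts kb U, (v ≫ iU) * (b * (π • (v ≫ iU)) * b⁻¹)⁻¹ = u ≫ iU := by
  obtain ⟨F, hF⟩ := exists_tw_normal (kb := kb) iU hUn b
  have hcon : ConnectedSpace (bcK kb U).left := connectedSpace_bcK U
  obtain ⟨m, hm, hmm⟩ := lang_ptSub (mapK kb iU) hπ hF (u ≫ iU) ((mem_ptSub_mapK iU).2 ⟨u, rfl⟩)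
  obtain ⟨v, rfl⟩ := (mem_ptSub_mapK iU).1 hm
  exact ⟨v, hmm⟩

include hUn in
theorem card_cent [IsAffineHom G.hom] [LocallyOfFiniteType G.hom] [IsAffineHom U.hom]
    (hUu : Red.HasNoSubtorus kb (GalTw.bcK kb U))
    (d : ℕ) (hd : topologicalKrullDim ↥U.left = (d : WithBot ℕ∞))
    {π : kb ≃ₐ[k] kb} (hπ : ∀ x, π x = x ^ Nat.card k) (b : SGA7.Pts kb G) :
    Nat.card {g : SGA7.Pts kb G // b * (π • g) * b⁻¹ = g} =
      Nat.card {h : SGA7.Pts kb H // (b ≫ ret iH iU) * (π • h) * (b ≫ ret iH iU)⁻¹ = h} * Nat.card k ^ d := by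
  have hcon : ConnectedSpace (bcK kb U).left := connectedSpace_bcK U
  obtain ⟨F, hF⟩ := exists_tw_normal (kb := kb) iU hUn b
  have hcard := card_ptSub (mapK kb iU) hUu hπ hF d (by rw [dim_bcK, hd])
  have hsm : ∀ (g g' : SGA7.Pts kb G), π • (g * g') = (π • g) * (π • g') := fun g g' => smul_mul' π g g'
  let FB : SGA7.Pts kb G →* SGA7.Pts kb G :=
    { toFun := fun g => b * (π • g) * b⁻¹
      map_one' := by
        have h1 : π • (1 : SGA7.Pts kb G) = 1 := smul_one π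
        rw [h1]; group
      map_mul' := fun g g' => by
        rw [hsm]
        group }
  have hFB : ∀ g, FB g = b * (π • g) * b⁻¹ := fun _ => rfl
  let A := ptSub (mapK kb iU)
  have hret : ∀ g : SGA7.Pts kb G, π • (g ≫ ret iH iU) = (π • g) ≫ ret iH iU := fun g =>
    (Category.assoc (SGA7.specAut π) g (ret iH iU)).symm
  have key := card_fixed (A := A) (B := SGA7.Pts kb G) (C := SGA7.Pts kb H) A.subtype (retP iH iU hUn kb)
    Subtype.val_injective (fun h => ⟨h ≫ iH, ret_iH iH iU h⟩) (fun g => by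
      change g ≫ ret iH iU = 1 ↔ _
      rw [ret_eq_one_iff]
      constructor
      · rintro ⟨u, hu⟩
        exact ⟨⟨g, (mem_ptSub_mapK iU).2 ⟨u, hu⟩⟩, rfl⟩
      · rintro ⟨a, rfl⟩
        exact (mem_ptSub_mapK iU).1 a.2)
    (fun a => ⟨FB a.1, mem_tw (mapK kb iU) hπ hF a.2⟩) FB
    (fun h => (b ≫ ret iH iU) * (π • h) * (b ≫ ret iH iU)⁻¹) (fun a => rfl) (fun g => by
      rw [hFB, map_mul, map_mul, map_inv]
      change (b ≫ ret iH iU) * ((π • g) ≫ ret iH iU) * (b ≫ ret iH iU)⁻¹ = _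
      rw [← hret]
      rfl) (fun a => by
      obtain ⟨m, hm, hmm⟩ := lang_ptSub (mapK kb iU) hπ hF a.1 a.2
      exact ⟨⟨m, hm⟩, Subtype.ext hmm⟩)
  have e1 : Nat.card {a : A // (⟨FB a.1, mem_tw (mapK kb iU) hπ hF a.2⟩ : A) = a} = Nat.card k ^ d := by
    rw [← hcard]
    refine Nat.card_congr
      { toFun := fun a => ⟨a.1.1, a.1.2, congrArg Subtype.val a.2⟩
        invFun := fun a => ⟨⟨a.1, a.2.1⟩, Subtype.ext a.2.2⟩
        left_inv := fun a => rfl
        right_inv := fun a => rfl }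
  rw [mul_comm, ← e1]
  exact key

end main

section count

open K815.Frob K815.PtsBC K815.TwLang GalTw K869.PtSub K815.Mass

theorem count (k : Type u) [Field k] [Finite k]
    (kb : Type u) [Field kb] [Algebra k kb] [IsAlgClosure k kb]
    (G H U : Over (Spec (CommRingCat.of k))) [GrpObj G] [GrpObj H] [GrpObj U]
    [Smooth G.hom] [IsAffineHom G.hom] [Smooth H.hom] [IsAffineHom H.hom]
    [Smooth U.hom] [IsAffineHom U.hom] [ConnectedSpace U.left]
    (iH : H ⟶ G) (iU : U ⟶ G) [IsMonHom iH] [IsMonHom iU] [Mono iH] [Mono iU]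
    (hUn : AlgGrp.IsNormalHom iU) (hsd : IsIso ((fst H U ≫ iH) * (snd H U ≫ iU)))
    (hUu : Red.HasNoSubtorus kb (GalTw.bcK kb U))
    (d : ℕ) (hd : topologicalKrullDim ↥U.left = (d : WithBot ℕ∞))
    (X : Over (Spec (CommRingCat.of k))) [LocallyOfFiniteType X.hom] [QuasiCompact X.hom]
    (aG : AlgGrp.Action G X) (aH : AlgGrp.Action H X)
    (haH : aH.act = (iH ▷ X) ≫ aG.act)
    (hG : StkCnt.IsEssFinite (StkCnt.pts (AlgSt.QuotSt Scheme.etalePrecoverage G aG) k))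
    (hH : StkCnt.IsEssFinite (StkCnt.pts (AlgSt.QuotSt Scheme.etalePrecoverage H aH) k)) :
    StkCnt.ptCount (AlgSt.QuotSt Scheme.etalePrecoverage G aG) k hG * (Nat.card k : ℚ) ^ d =
      StkCnt.ptCount (AlgSt.QuotSt Scheme.etalePrecoverage H aH) k hH := by
  classical
  have hac : IsAlgClosed kb := IsAlgClosure.isAlgClosed k
  have halg : Algebra.IsAlgebraic k kb := IsAlgClosure.isAlgebraic
  obtain ⟨π, hπ⟩ := K815.GalFin.exists_frob (k := k) (kb := kb)
  obtain ⟨DG⟩ := K815.DictMass.nonempty_Dict (k := k) (k' := k) (kb := kb) aG hπ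
  obtain ⟨DH⟩ := K815.DictMass.nonempty_Dict (k := k) (k' := k) (kb := kb) aH hπ
  let _ : MulAction (SGA7.pt (K := k) kb ⟶ G) (SGA7.pt (K := k) kb ⟶ X) :=
    K815.Tors.mulAction aG (SGA7.pt (K := k) kb)
  let _ : MulAction (SGA7.pt (K := k) kb ⟶ H) (SGA7.pt (K := k) kb ⟶ X) :=
    K815.Tors.mulAction aH (SGA7.pt (K := k) kb)
  have hψG : ∀ (g : SGA7.pt (K := k) kb ⟶ G) (x : SGA7.pt (K := k) kb ⟶ X),
      K815.PtEq.s (k := k) π ≫ (g • x) = K815.DictMass.frH G π g • (K815.PtEq.s (k := k) π ≫ x) :=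
    fun g x => K815.Tors.comp_ac aG (K815.PtEq.s π) g x
  have hψH : ∀ (g : SGA7.pt (K := k) kb ⟶ H) (x : SGA7.pt (K := k) kb ⟶ X),
      K815.PtEq.s (k := k) π ≫ (g • x) = K815.DictMass.frH H π g • (K815.PtEq.s (k := k) π ≫ x) :=
    fun g x => K815.Tors.comp_ac aH (K815.PtEq.s π) g x
  have hFG : Fintype (StkCnt.IsoCl (StkCnt.pts (AlgSt.QuotSt Scheme.etalePrecoverage G aG) k)) :=
    @Fintype.ofFinite _ hG.finite_isoCl
  have hFH : Fintype (StkCnt.IsoCl (StkCnt.pts (AlgSt.QuotSt Scheme.etalePrecoverage H aH) k)) :=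
    @Fintype.ofFinite _ hH.finite_isoCl
  rw [StkCnt.ptCount, StkCnt.count_eq_sum, StkCnt.ptCount, StkCnt.count_eq_sum]
  have hcast : ((Nat.card k : ℚ) ^ d) = ((Nat.card k ^ d : ℕ) : ℚ) := by push_cast; rfl
  rw [hcast]
  have hcent : ∀ (B : Over (Spec (CommRingCat.of k))) [GrpObj B] (b : SGA7.Pts kb B),
      Nat.card (cent (K815.DictMass.frH B π) b) = Nat.card {g : SGA7.Pts kb B // b * (π • g) * b⁻¹ = g} := by
    intro B _ b
    refine Nat.card_congr (Equiv.subtypeEquivRight fun g => ?_)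
    rw [mul_inv_eq_iff_eq_mul]
    rfl
  refine K869.Pairs.sum_two DG DH hψG hψH (incP kb iH) (fun a => ?_) (fun a x => ?_) (fun g => ?_)
    (fun a a' h => ?_) (Nat.card k ^ d) (pow_ne_zero _ Nat.card_pos.ne') (fun a => ?_)
    (fun a => K815.DictMass.finite_cent (k := k) (k' := k) (kb := kb) hπ _)
    (fun a => K815.DictMass.finite_cent (k := k) (k' := k) (kb := kb) hπ _)
    (fun a => (K815.DictMass.finite_tw (k := k) (k' := k) (kb := kb) aH hπ a).to_subtype)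
  · exact (Category.assoc (K815.PtEq.s (k := k) π) a iH).symm
  · change lift (a ≫ iH) x ≫ aG.act = lift a x ≫ aH.act
    rw [haH, lift_whiskerRight_assoc]
  · -- every class is met
    obtain ⟨u, hu⟩ := exists_decomp iH iU g
    let a : SGA7.Pts kb H := g ≫ ret iH iU
    obtain ⟨u', hu'⟩ := hUn _ (a ≫ iH) u
    obtain ⟨v, hv⟩ := lang_U iU hUn hπ (a ≫ iH) u'
    refine ⟨a, (v ≫ iU)⁻¹, ?_⟩
    have h1 : K815.DictMass.frH G π (v ≫ iU)⁻¹ = (π • (v ≫ iU))⁻¹ := by
      rw [map_inv]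
      rfl
    have h2 : g = (u' ≫ iU) * (a ≫ iH) := by
      rw [← hu', inv_mul_cancel_right]
      exact hu
    rw [h1]
    change (a ≫ iH) * (π • (v ≫ iU))⁻¹ = (v ≫ iU)⁻¹ * g
    rw [h2, ← hv]
    group
  · obtain ⟨b, hb⟩ := h
    refine ⟨b ≫ ret iH iU, ?_⟩
    have h1 := congrArg (retP iH iU hUn kb) hb
    rw [map_mul, map_mul] at h1
    have h2 : ∀ a : SGA7.Pts kb H, retP iH iU hUn kb (incP kb iH a) = a := fun a => ret_iH iH iU a
    rw [h2, h2] at h1
    have h3 : retP iH iU hUn kb (K815.DictMass.frH G π b) = K815.DictMass.frH H π (b ≫ ret iH iU) :=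
      Category.assoc (K815.PtEq.s (k := k) π) b (ret iH iU)
    rw [h3] at h1
    exact h1
  · rw [hcent, hcent, card_cent iH iU hUn hUu d hd hπ]
    have h1 : (incP kb iH a : SGA7.Pts kb G) ≫ ret iH iU = a := ret_iH iH iU a
    rw [h1]

end count

end K869.Semi
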