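import Groth.Agent.StackCount.K869.Stab

/-!
# The mass of a Galois-stable orbit, and the point count as a sum over orbits
-/

set_option autoImplicit false
set_option linter.unusedSectionVars false
universe u
open CategoryTheory Limits MonoidalCategory CartesianMonoidalCategory MonObj GrpObj AlgebraicGeometry

namespace K869.OrbitCount

open K815.Frob K815.PtsBC K815.TwLang K815.Tors GalTw K869.PtSub Groth.Agent.Sga3B.BcPts K869.Stab K815.DictMass
  K815.PtEq K815.Mass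

variable {k : Type u} [Field k] [Finite k] {kb : Type u} [Field kb] [Algebra k kb] [IsAlgClosed kb]
  [Algebra.IsAlgebraic k kb]
  {G : Over (Spec (CommRingCat.of k))} [GrpObj G] [Smooth G.hom] [IsAffineHom G.hom]
  {X : Over (Spec (CommRingCat.of k))} [LocallyOfFiniteType X.hom] {aX : AlgGrp.Action G X}

/-- **The mass of a stable orbit with unipotent stabiliser.** -/
theorem sum_orbit {π : kb ≃ₐ[k] kb} (hπ : ∀ x, π x = x ^ Nat.card k)
    {C : Type*} [Category C]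
    (D : @Dict (SGA7.pt (K := k) kb ⟶ G) (SGA7.pt (K := k) kb ⟶ X) _ (mulAction aX (SGA7.pt (K := k) kb)) C _
      (frH G π) (fun x => s π ≫ x))
    (x : SGA7.Pts kb X) {S : Over (Spec (CommRingCat.of kb))} [GrpObj S] (s : S ⟶ bcK kb G) [IsMonHom s] [Mono s]
    (hS : IsStab aX x s) (hSu : Red.HasNoSubtorus kb S) (d : ℕ) (hd : topologicalKrullDim ↥S.left = (d : WithBot ℕ∞))
    (g0 : SGA7.Pts kb G) (hg0 : ac aX g0 (π • x) = x)
    (Sf : Finset (StkCnt.IsoCl C))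
    (hSf : ∀ A : C, StkCnt.IsoCl.mk A ∈ Sf ↔ ∃ h : SGA7.Pts kb G, ac aX h x =
      (@Dict.pr (SGA7.pt (K := k) kb ⟶ G) (SGA7.pt (K := k) kb ⟶ X) _ (mulAction aX (SGA7.pt (K := k) kb)) C _
        (frH G π) (fun x => K815.PtEq.s π ≫ x) D A).2) :
    ∑ c ∈ Sf, ((StkCnt.autCard C c : ℕ) : ℚ)⁻¹ = (((Nat.card k ^ d : ℕ)) : ℚ)⁻¹ := by
  classical
  let _ : MulAction (SGA7.pt (K := k) kb ⟶ G) (SGA7.pt (K := k) kb ⟶ X) := mulAction aX (SGA7.pt (K := k) kb)
  have hψ : ∀ (g : SGA7.pt (K := k) kb ⟶ G) (x : SGA7.pt (K := k) kb ⟶ X),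
      K815.PtEq.s (k := k) π ≫ (g • x) = frH G π g • (K815.PtEq.s (k := k) π ≫ x) := fun g x => comp_ac aX (K815.PtEq.s π) g x
  -- the reduced identity component of the stabiliser
  have hcl := hS.isClosedImmersion
  have hlftG : LocallyOfFiniteType (bcK kb G).hom := by
    change LocallyOfFiniteType (pullback.snd _ _)
    infer_instance
  have haffG : IsAffineHom (bcK kb G).hom := by
    change IsAffineHom (pullback.snd _ _)
    infer_instance
  have hlft : LocallyOfFiniteType S.hom := by rw [← Over.w s]; infer_instance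
  have haff : IsAffineHom S.hom := by rw [← Over.w s]; infer_instance
  obtain ⟨U, _, u, hu1, hu2, hu3, hu4, hu5, ⟨α, hα, f, hf⟩, hu6⟩ := K869.IdComp.exists_idComp S
  have haffU : IsAffineHom U.hom := by rw [← Over.w u]; infer_instance
  have humono : Mono u := Over.mono_of_mono_left u
  have hUu : Red.HasNoSubtorus kb U := by
    intro T _ j _ _ hT
    have : Mono (j ≫ u) := mono_comp _ _
    exact hSu T (j ≫ u) hT
  have hmono : Mono (u ≫ s) := mono_comp _ _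
  -- stability under endomorphisms
  have hstab : ∀ {e : bcK kb G ⟶ bcK kb G} [IsMonHom e], (∃ E : S ⟶ S, E ≫ s = s ≫ e) →
      ∃ F : U ⟶ U, F ≫ (u ≫ s) = (u ≫ s) ≫ e := by
    rintro e he ⟨E, hE⟩
    obtain ⟨F, hF⟩ := hu5 E (by
      rw [← cancel_mono s, Category.assoc, hE, ← Category.assoc, IsMonHom.one_hom s, IsMonHom.one_hom e])
    exact ⟨F, by rw [← Category.assoc, hF, Category.assoc, hE, Category.assoc]⟩
  have hfrob : ∀ b : SGA7.Pts kb G, ac aX b (π • x) = x →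
      ∃ F : U ⟶ U, F ≫ (u ≫ s) = (u ≫ s) ≫ FrK kb G ≫ innK kb b := by
    intro b hb
    exact hstab (hS.exists_frob hπ hb)
  have hinn : ∀ b : SGA7.Pts kb G, ac aX b x = x → ∃ F : U ⟶ U, F ≫ (u ≫ s) = (u ≫ s) ≫ innK kb b := by
    intro b hb
    exact hstab (hS.exists_inn hb)
  -- the subgroup of points
  let P : Subgroup (SGA7.Pts kb G) := ptSub (u ≫ s)
  have hPx : ∀ m ∈ P, ac aX m x = x := by
    rintro m ⟨n, hn⟩
    refine (fix_sec x m).1 ((hS.iff _).1 ⟨n ≫ u, ?_⟩)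
    rw [Category.assoc, hn]
  let st : Subgroup (SGA7.pt (K := k) kb ⟶ G) := MulAction.stabilizer (SGA7.pt (K := k) kb ⟶ G) (x : SGA7.pt (K := k) kb ⟶ X)
  let N : Subgroup st := P.subgroupOf st
  have hmemN : ∀ m : st, m ∈ N ↔ m.1 ∈ P := fun m => Iff.rfl
  have hNn : N.Normal := by
    refine ⟨fun n hn b => ?_⟩
    rw [hmemN] at hn ⊢
    obtain ⟨n', hn'⟩ := hn
    obtain ⟨F, hF⟩ := hinn b.1 b.2
    refine ⟨n' ≫ F, ?_⟩
    rw [Category.assoc, hF, ← Category.assoc, hn', sec_innK]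
    rfl
  -- finite index
  have hfi : Finite (st ⧸ N) := by
    have hex : ∀ b : st, ∃ g : 𝟙_ (Over (Spec (CommRingCat.of kb))) ⟶ S, g ≫ s = secOfPt kb b.1 := fun b =>
      (hS.iff _).2 ((fix_sec x b.1).2 b.2)
    choose g hg using hex
    refine Finite.of_injective (fun y : st ⧸ N => f (g y.out)) fun y y' h => ?_
    obtain ⟨n, hn⟩ := hf _ _ h
    rw [← Quotient.out_eq y, ← Quotient.out_eq y']
    refine QuotientGroup.eq.mpr ?_
    rw [hmemN]
    refine ⟨n, ?_⟩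
    rw [← Category.assoc, hn, MonObj.mul_comp, GrpObj.inv_comp, hg, hg, ← sec_inv, ← sec_mul]
    rfl
  have htw : ∀ b : st, ac aX (b.1 * g0) (π • x) = x := by
    intro b
    rw [ac_mul, hg0]
    exact b.2
  have hsmul : ∀ m : SGA7.pt (K := k) kb ⟶ G, frH G π m = π • m := fun m => rfl
  have key := K869.Pairs.sum_orbit D hψ x g0 hg0 N (fun n hn => by
      obtain ⟨F, hF⟩ := hfrob g0 hg0
      exact mem_tw (u ≫ s) hπ hF hn) (fun b n hn => by
      obtain ⟨F, hF⟩ := hfrob (b.1 * g0) (htw b)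
      obtain ⟨m, hm, hmm⟩ := lang_ptSub (u ≫ s) hπ hF n.1 hn
      refine ⟨⟨m, hPx m hm⟩, hm, Subtype.ext ?_⟩
      change m * (b.1 * (g0 * frH G π m * g0⁻¹) * b.1⁻¹)⁻¹ = n.1
      rw [← hmm, hsmul]
      group) (Nat.card k ^ d) (pow_ne_zero _ Nat.card_pos.ne') (fun b => by
      obtain ⟨F, hF⟩ := hfrob (b.1 * g0) (htw b)
      rw [← card_ptSub (u ≫ s) hUu hπ hF d (by rw [hu6, hd])]
      refine Nat.card_congr
        { toFun := fun m => ⟨m.1.1, m.2.1, ?_⟩
          invFun := fun m => ⟨⟨m.1, hPx m.1 m.2.1⟩, m.2.1, Subtype.ext ?_⟩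
          left_inv := fun m => rfl
          right_inv := fun m => rfl }
      · have h1 : b.1 * (g0 * frH G π m.1.1 * g0⁻¹) * b.1⁻¹ = m.1.1 := congrArg Subtype.val m.2.2
        rw [hsmul] at h1
        conv_rhs => rw [← h1]
        group
      · change b.1 * (g0 * frH G π m.1 * g0⁻¹) * b.1⁻¹ = m.1
        have h1 := m.2.2
        rw [hsmul]
        conv_rhs => rw [← h1]
        group) Sf (fun A => hSf A)
  exact key

end K869.OrbitCount

namespace K869.OrbitCount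

open K815.Frob K815.PtsBC K815.TwLang K815.Tors GalTw K869.PtSub Groth.Agent.Sga3B.BcPts K869.Stab K815.DictMass
  K815.PtEq K815.Mass

theorem isStab_of {k : Type u} [Field k] {kb : Type u} [Field kb] [Algebra k kb]
    {G : Over (Spec (CommRingCat.of k))} [GrpObj G]
    {X : Over (Spec (CommRingCat.of k))} {aX : AlgGrp.Action G X} {x : SGA7.Pts kb X}
    {S : Over (Spec (CommRingCat.of kb))} {s : S ⟶ bcK kb G}
    (hS : ∀ (T : Over (Spec (CommRingCat.of kb)))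
      (g : (Over.map (SGA7.pt (K := k) kb).hom).obj T ⟶ G),
      (∃ g' : T ⟶ S, g' ≫ s = (Over.mapPullbackAdj (SGA7.pt (K := k) kb).hom).homEquiv T G g) ↔
        lift g ((Over.homMk T.hom rfl : (Over.map (SGA7.pt (K := k) kb).hom).obj T ⟶ SGA7.pt (K := k) kb) ≫ x)
            ≫ aX.act =
          (Over.homMk T.hom rfl : (Over.map (SGA7.pt (K := k) kb).hom).obj T ⟶ SGA7.pt (K := k) kb) ≫ x) :
    IsStab aX x s := by
  refine ⟨fun {T} t => ?_⟩
  have h := hS T ((bcEquiv (SGA7.pt (K := k) kb).hom T G).symm t)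
  have h1 : (Over.mapPullbackAdj (SGA7.pt (K := k) kb).hom).homEquiv T G
      ((bcEquiv (SGA7.pt (K := k) kb).hom T G).symm t) = t := (bcEquiv (SGA7.pt (K := k) kb).hom T G).apply_symm_apply t
  rw [h1] at h
  exact h

theorem count (k : Type u) [Field k] [Finite k]
    (kb : Type u) [Field kb] [Algebra k kb] [IsAlgClosure k kb]
    (G : Over (Spec (CommRingCat.of k))) [GrpObj G] [Smooth G.hom] [IsAffineHom G.hom]
    (X : Over (Spec (CommRingCat.of k))) [LocallyOfFiniteType X.hom] [QuasiCompact X.hom]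
    (aX : AlgGrp.Action G X)
    (J : Type) [Fintype J] (x : J → SGA7.Pts kb X)
    (hdis : ∀ j j' : J, (∃ g : SGA7.Pts kb G, lift g (x j) ≫ aX.act = x j') → j = j')
    (hfix : ∀ (j : J) (σ : kb ≃ₐ[k] kb), ∃ g : SGA7.Pts kb G, lift g (σ • x j) ≫ aX.act = x j)
    (hall : ∀ y : SGA7.Pts kb X,
      (∀ σ : kb ≃ₐ[k] kb, ∃ g : SGA7.Pts kb G, lift g (σ • y) ≫ aX.act = y) →
        ∃ (j : J) (g : SGA7.Pts kb G), lift g (x j) ≫ aX.act = y)
    (S : J → Over (Spec (CommRingCat.of kb))) [∀ j, GrpObj (S j)]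
    (s : ∀ j, S j ⟶ GalTw.bcK kb G) [∀ j, IsMonHom (s j)] [∀ j, Mono (s j)]
    (hS : ∀ (j : J) (T : Over (Spec (CommRingCat.of kb)))
      (g : (Over.map (SGA7.pt (K := k) kb).hom).obj T ⟶ G),
      (∃ g' : T ⟶ S j, g' ≫ s j = (Over.mapPullbackAdj (SGA7.pt (K := k) kb).hom).homEquiv T G g) ↔
        lift g ((Over.homMk T.hom rfl : (Over.map (SGA7.pt (K := k) kb).hom).obj T ⟶ SGA7.pt (K := k) kb) ≫ x j)
            ≫ aX.act =
          (Over.homMk T.hom rfl : (Over.map (SGA7.pt (K := k) kb).hom).obj T ⟶ SGA7.pt (K := k) kb) ≫ x j)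
    (hSu : ∀ j, Red.HasNoSubtorus kb (S j))
    (d : J → ℕ) (hd : ∀ j, topologicalKrullDim ↥(S j).left = (d j : WithBot ℕ∞))
    (h : StkCnt.IsEssFinite (StkCnt.pts (AlgSt.QuotSt Scheme.etalePrecoverage G aX) k)) :
    StkCnt.ptCount (AlgSt.QuotSt Scheme.etalePrecoverage G aX) k h =
      ∑ j : J, ((Nat.card k : ℚ) ^ (d j))⁻¹ := by
  classical
  have hac : IsAlgClosed kb := IsAlgClosure.isAlgClosed k
  have halg : Algebra.IsAlgebraic k kb := IsAlgClosure.isAlgebraic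
  obtain ⟨π, hπ⟩ := K815.GalFin.exists_frob (k := k) (kb := kb)
  obtain ⟨D⟩ := K815.DictMass.nonempty_Dict (k := k) (k' := k) (kb := kb) aX hπ
  let _ : MulAction (SGA7.pt (K := k) kb ⟶ G) (SGA7.pt (K := k) kb ⟶ X) := mulAction aX (SGA7.pt (K := k) kb)
  have hFi : Fintype (StkCnt.IsoCl (StkCnt.pts (AlgSt.QuotSt Scheme.etalePrecoverage G aX) k)) :=
    @Fintype.ofFinite _ h.finite_isoCl
  -- the orbit of an object
  have hex : ∀ A : StkCnt.pts (AlgSt.QuotSt Scheme.etalePrecoverage G aX) k,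
      ∃ (j : J) (g : SGA7.Pts kb G), ac aX g (x j) = (D.pr A).2 := by
    intro A
    refine hall _ fun σ => ?_
    obtain ⟨z, h1, h2, h3⟩ := K815.Lc.exists_lc (k := k) (G := G) hπ (D.pr A).1
    exact ⟨z σ, K815.Lc.fixed_of_frob (aX := aX) hπ h1 h2 (x := (D.pr A).2) (by rw [h3]; exact D.fix A) σ⟩
  choose jj gg hgg using hex
  let F : StkCnt.IsoCl (StkCnt.pts (AlgSt.QuotSt Scheme.etalePrecoverage G aX) k) → J := fun c => jj c.out
  have hF : ∀ (A : StkCnt.pts (AlgSt.QuotSt Scheme.etalePrecoverage G aX) k) (j : J),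
      F (StkCnt.IsoCl.mk A) = j ↔ ∃ g : SGA7.Pts kb G, ac aX g (x j) = (D.pr A).2 := by
    intro A j
    have h1 : StkCnt.IsoCl.mk (Quotient.out (StkCnt.IsoCl.mk A)) = StkCnt.IsoCl.mk A := Quotient.out_eq _
    rw [D.mk_eq_iff] at h1
    obtain ⟨b, -, hb⟩ := h1
    have hb' : ac aX b (D.pr A).2 = (D.pr (Quotient.out (StkCnt.IsoCl.mk A))).2 := hb
    constructor
    · rintro rfl
      refine ⟨b⁻¹ * gg (Quotient.out (StkCnt.IsoCl.mk A)), ?_⟩
      change ac aX _ (x (jj (Quotient.out (StkCnt.IsoCl.mk A)))) = _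
      rw [ac_mul, hgg, ← hb', ac_inv_ac]
    · rintro ⟨g, hg⟩
      refine hdis _ _ ⟨g⁻¹ * b⁻¹ * gg (Quotient.out (StkCnt.IsoCl.mk A)), ?_⟩
      change ac aX _ (x (jj (Quotient.out (StkCnt.IsoCl.mk A)))) = x j
      rw [ac_mul, ac_mul, hgg, ← hb', ac_inv_ac, ← hg, ac_inv_ac]
  rw [StkCnt.ptCount, StkCnt.count_eq_sum, ← Finset.sum_fiberwise Finset.univ F]
  refine Finset.sum_congr rfl fun j _ => ?_
  obtain ⟨g0, hg0⟩ := hfix j π
  rw [sum_orbit hπ D (x j) (s j) (isStab_of (hS j)) (hSu j) (d j) (hd j) g0 hg0 _ (fun A => by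
    rw [Finset.mem_filter]
    simp only [Finset.mem_univ, true_and]
    exact hF A j)]
  push_cast
  rfl

end K869.OrbitCount
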