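import Groth.Agent.StackCount.K869.AffAct
import Groth.Agent.StackCount.K869.Semi
import Groth.Prelude.Def_ChGrp

/-!
# The point count of `[(E × V)/((F × H) ⋉ U)]`
-/

set_option autoImplicit false
set_option linter.unusedSectionVars false
universe u
open CategoryTheory Limits MonoidalCategory CartesianMonoidalCategory MonObj GrpObj AlgebraicGeometry

namespace K869.FinAff

open K815.Frob K815.PtsBC K815.TwLang K815.Tors GalTw K869.PtSub Groth.Agent.Sga3B.BcPts K869.Stab K869.Semi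
  K869.AffAct K815.Mass K815.DictMass K815.PtEq

section prod

variable {S : Scheme.{u}} {G F H U T : Over S} [GrpObj G] [GrpObj F] [GrpObj H] [GrpObj U]
  (iF : F ⟶ G) (iH : H ⟶ G) [IsMonHom iF] [IsMonHom iH]

/-- The product homomorphism. -/
noncomputable def iFH : F ⊗ H ⟶ G := (fst F H ≫ iF) * (snd F H ≫ iH)

theorem comp_iFH (x : T ⟶ F ⊗ H) : x ≫ iFH iF iH = (x ≫ fst F H ≫ iF) * (x ≫ snd F H ≫ iH) := by
  rw [iFH, MonObj.comp_mul]

theorem mul_fst (x y : T ⟶ F ⊗ H) : (x * y) ≫ fst F H = (x ≫ fst F H) * (y ≫ fst F H) := MonObj.mul_comp _ _ _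

theorem mul_snd (x y : T ⟶ F ⊗ H) : (x * y) ≫ snd F H = (x ≫ snd F H) * (y ≫ snd F H) := MonObj.mul_comp _ _ _

theorem comm_pt (hFH : (fst F H ≫ iF) * (snd F H ≫ iH) = (snd F H ≫ iH) * (fst F H ≫ iF)) (f : T ⟶ F) (h : T ⟶ H) :
    (f ≫ iF) * (h ≫ iH) = (h ≫ iH) * (f ≫ iF) := by
  have h1 := congrArg (fun t => lift f h ≫ t) hFH
  simp only [MonObj.comp_mul, lift_fst_assoc, lift_snd_assoc] at h1
  exact h1

theorem isMonHom_iFH (hFH : (fst F H ≫ iF) * (snd F H ≫ iH) = (snd F H ≫ iH) * (fst F H ≫ iF)) :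
    IsMonHom (iFH iF iH) := by
  apply Groth.Agent.Sga3B.Pts.isMonHom_of_points
  intro T x y
  rw [comp_iFH, comp_iFH, comp_iFH, ← Category.assoc, ← Category.assoc, mul_fst, mul_snd, MonObj.mul_comp,
    MonObj.mul_comp]
  simp only [Category.assoc]
  have h1 := comm_pt iF iH hFH (y ≫ fst F H) (x ≫ snd F H)
  simp only [Category.assoc] at h1
  calc (x ≫ fst F H ≫ iF) * (y ≫ fst F H ≫ iF) * ((x ≫ snd F H ≫ iH) * (y ≫ snd F H ≫ iH))
      = (x ≫ fst F H ≫ iF) * ((y ≫ fst F H ≫ iF) * (x ≫ snd F H ≫ iH)) * (y ≫ snd F H ≫ iH) := by group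
    _ = _ := by rw [h1]; group

end prod

section cent

variable {k : Type u} [Field k] [Finite k] {kb : Type u} [Field kb] [Algebra k kb] [IsAlgClosed kb]
  [Algebra.IsAlgebraic k kb]

theorem card_cent_eq {π : kb ≃ₐ[k] kb} (B : Over (Spec (CommRingCat.of k))) [GrpObj B] (b : SGA7.Pts kb B) :
    Nat.card (cent (frH B π) b) = Nat.card {g : SGA7.Pts kb B // b * (π • g) * b⁻¹ = g} := by
  refine Nat.card_congr (Equiv.subtypeEquivRight fun g => ?_)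
  rw [mul_inv_eq_iff_eq_mul]
  rfl

theorem card_rat_ne_zero {π : kb ≃ₐ[k] kb} (hπ : ∀ x, π x = x ^ Nat.card k) (H : Over (Spec (CommRingCat.of k)))
    [GrpObj H] [LocallyOfFiniteType H.hom] [QuasiCompact H.hom] : Nat.card (SGA7.Pts k H) ≠ 0 := by
  have h1 := finite_cent (k := k) (k' := k) (kb := kb) (G := H) hπ 1
  have h2 : Nat.card (SGA7.Pts k H) = Nat.card (cent (frH H π) 1) := by
    rw [card_cent_eq, K815.Rat.card_rat hπ H]
    refine Nat.card_congr (Equiv.subtypeEquivRight fun g => ?_)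
    rw [_root_.one_mul, _root_.inv_one, _root_.mul_one]
  rw [h2]
  exact Nat.card_pos.ne'

/-- Fixed points on a product. -/
theorem card_prod (F H : Over (Spec (CommRingCat.of k))) [GrpObj F] [GrpObj H] {π : kb ≃ₐ[k] kb}
    (hπ : ∀ x, π x = x ^ Nat.card k) (a : SGA7.Pts kb F) :
    Nat.card {t : SGA7.Pts kb (F ⊗ H) // lift a 1 * (π • t) * (lift a 1)⁻¹ = t} =
      Nat.card {f : SGA7.Pts kb F // a * (π • f) * a⁻¹ = f} * Nat.card (SGA7.Pts k H) := by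
  rw [K815.Rat.card_rat hπ H, ← Nat.card_prod]
  have hl : ∀ (f : SGA7.Pts kb F) (h : SGA7.Pts kb H), π • (lift f h : SGA7.Pts kb (F ⊗ H)) = lift (π • f) (π • h) :=
    fun f h => comp_lift (SGA7.specAut π) f h
  have key : ∀ t : SGA7.Pts kb (F ⊗ H), lift a 1 * (π • t) * (lift a 1)⁻¹ = t ↔
      a * (π • (t ≫ fst F H : SGA7.Pts kb F)) * a⁻¹ = t ≫ fst F H ∧
        π • (t ≫ snd F H : SGA7.Pts kb H) = t ≫ snd F H := by
    intro t
    have e1 : (lift a 1 * (π • t) * (lift a 1)⁻¹) ≫ fst F H = a * (π • (t ≫ fst F H : SGA7.Pts kb F)) * a⁻¹ := by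
      rw [MonObj.mul_comp, MonObj.mul_comp, GrpObj.inv_comp, lift_fst]
      congr 2
    have e2 : (lift a 1 * (π • t) * (lift a 1)⁻¹) ≫ snd F H = π • (t ≫ snd F H : SGA7.Pts kb H) := by
      rw [MonObj.mul_comp, MonObj.mul_comp, GrpObj.inv_comp, lift_snd, _root_.one_mul, _root_.inv_one,
        _root_.mul_one]
      exact Category.assoc _ _ _
    rw [← e1, ← e2]
    constructor
    · intro h
      exact ⟨by rw [h], by rw [h]⟩
    · rintro ⟨h1, h2⟩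
      exact CartesianMonoidalCategory.hom_ext _ _ h1 h2
  refine Nat.card_congr
    { toFun := fun t => (⟨t.1 ≫ fst F H, ((key t.1).1 t.2).1⟩, ⟨t.1 ≫ snd F H, ((key t.1).1 t.2).2⟩)
      invFun := fun t => ⟨lift t.1.1 t.2.1, (key _).2 ⟨by rw [lift_fst]; exact t.1.2, by rw [lift_snd]; exact t.2.2⟩⟩
      left_inv := fun t => Subtype.ext (by
        change lift (t.1 ≫ fst F H) (t.1 ≫ snd F H) = t.1
        ext1
        · rw [lift_fst]
        · rw [lift_snd])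
      right_inv := fun t => Prod.ext (Subtype.ext (lift_fst _ _)) (Subtype.ext (lift_snd _ _)) }

end cent

section A

theorem count_A (k : Type u) [Field k] [Finite k]
    (kb : Type u) [Field kb] [Algebra k kb] [IsAlgClosed kb] [Algebra.IsAlgebraic k kb]
    (G F H U : Over (Spec (CommRingCat.of k))) [GrpObj G] [GrpObj F] [GrpObj H] [GrpObj U]
    [Smooth G.hom] [IsAffineHom G.hom] [Smooth F.hom] [IsAffineHom F.hom]
    [Smooth H.hom] [IsAffineHom H.hom] [ConnectedSpace H.left]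
    [Smooth U.hom] [IsAffineHom U.hom] [ConnectedSpace U.left]
    (iF : F ⟶ G) (iH : H ⟶ G) (iU : U ⟶ G) [IsMonHom iF] [IsMonHom iH] [IsMonHom iU] [Mono iU]
    (hFH : (fst F H ≫ iF) * (snd F H ≫ iH) = (snd F H ≫ iH) * (fst F H ≫ iF))
    (hUn : AlgGrp.IsNormalHom iU)
    (hsd : IsIso ((fst (F ⊗ H) U ≫ fst F H ≫ iF) * (fst (F ⊗ H) U ≫ snd F H ≫ iH) * (snd (F ⊗ H) U ≫ iU)))
    (hUu : Red.HasNoSubtorus kb (GalTw.bcK kb U))
    (dU : ℕ) (hdU : topologicalKrullDim ↥U.left = (dU : WithBot ℕ∞))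
    (X : Over (Spec (CommRingCat.of k))) [LocallyOfFiniteType X.hom] [QuasiCompact X.hom]
    (aX : AlgGrp.Action G X) {π : kb ≃ₐ[k] kb} (hπ : ∀ x, π x = x ^ Nat.card k)
    [Fintype (StkCnt.IsoCl (StkCnt.pts (AlgSt.QuotSt Scheme.etalePrecoverage G aX) k))]
    [Fintype (StkCnt.IsoCl (StkCnt.pts (AlgSt.QuotSt Scheme.etalePrecoverage F (aX.restrict iF)) k))] :
    (∑ c : StkCnt.IsoCl (StkCnt.pts (AlgSt.QuotSt Scheme.etalePrecoverage G aX) k),
      ((StkCnt.autCard _ c : ℕ) : ℚ)⁻¹) * ((Nat.card (SGA7.Pts k H) * Nat.card k ^ dU : ℕ) : ℚ) =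
    ∑ c : StkCnt.IsoCl (StkCnt.pts (AlgSt.QuotSt Scheme.etalePrecoverage F (aX.restrict iF)) k),
      ((StkCnt.autCard _ c : ℕ) : ℚ)⁻¹ := by
  classical
  obtain ⟨DG⟩ := K815.DictMass.nonempty_Dict (k := k) (k' := k) (kb := kb) aX hπ
  obtain ⟨DF⟩ := K815.DictMass.nonempty_Dict (k := k) (k' := k) (kb := kb) (aX.restrict iF) hπ
  let _ : MulAction (SGA7.pt (K := k) kb ⟶ G) (SGA7.pt (K := k) kb ⟶ X) :=
    K815.Tors.mulAction aX (SGA7.pt (K := k) kb)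
  let _ : MulAction (SGA7.pt (K := k) kb ⟶ F) (SGA7.pt (K := k) kb ⟶ X) :=
    K815.Tors.mulAction (aX.restrict iF) (SGA7.pt (K := k) kb)
  have hψG : ∀ (g : SGA7.pt (K := k) kb ⟶ G) (x : SGA7.pt (K := k) kb ⟶ X),
      K815.PtEq.s (k := k) π ≫ (g • x) = K815.DictMass.frH G π g • (K815.PtEq.s (k := k) π ≫ x) :=
    fun g x => K815.Tors.comp_ac aX (K815.PtEq.s π) g x
  have hψF : ∀ (g : SGA7.pt (K := k) kb ⟶ F) (x : SGA7.pt (K := k) kb ⟶ X),
      K815.PtEq.s (k := k) π ≫ (g • x) = K815.DictMass.frH F π g • (K815.PtEq.s (k := k) π ≫ x) :=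
    fun g x => K815.Tors.comp_ac (aX.restrict iF) (K815.PtEq.s π) g x
  have hm := isMonHom_iFH iF iH hFH
  have hsd' : IsIso ((fst (F ⊗ H) U ≫ iFH iF iH) * (snd (F ⊗ H) U ≫ iU)) := by
    rw [comp_iFH]
    exact hsd
  have hsmF : QuasiCompact F.hom := inferInstance
  have hQ0 : Nat.card (SGA7.Pts k H) * Nat.card k ^ dU ≠ 0 :=
    Nat.mul_ne_zero (card_rat_ne_zero hπ H) (pow_ne_zero _ Nat.card_pos.ne')
  have hincl : ∀ a : SGA7.Pts kb F, (a ≫ iF : SGA7.Pts kb G) = lift a 1 ≫ iFH iF iH := by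
    intro a
    rw [comp_iFH, lift_fst_assoc, lift_snd_assoc, MonObj.one_comp, _root_.mul_one]
  refine K869.Pairs.sum_two DG DF hψG hψF (incP kb iF) (fun a => ?_) (fun a x => ?_) (fun g => ?_)
    (fun a a' h => ?_) (Nat.card (SGA7.Pts k H) * Nat.card k ^ dU) hQ0 (fun a => ?_)
    (fun a => K815.DictMass.finite_cent (k := k) (k' := k) (kb := kb) hπ _)
    (fun a => K815.DictMass.finite_cent (k := k) (k' := k) (kb := kb) hπ _)
    (fun a => (K815.DictMass.finite_tw (k := k) (k' := k) (kb := kb) (aX.restrict iF) hπ a).to_subtype)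
  · exact (Category.assoc (K815.PtEq.s (k := k) π) a iF).symm
  · change lift (a ≫ iF) x ≫ aX.act = lift a x ≫ (aX.restrict iF).act
    rw [AlgGrp.Action.restrict_act, lift_whiskerRight_assoc]
  · -- every class is met
    obtain ⟨u, hu⟩ := exists_decomp (iFH iF iH) iU g
    let a : SGA7.Pts kb (F ⊗ H) := g ≫ ret (iFH iF iH) iU
    obtain ⟨u', hu'⟩ := hUn _ (a ≫ iFH iF iH) u
    obtain ⟨v, hv⟩ := lang_U iU hUn hπ (a ≫ iFH iF iH) u'
    let f : SGA7.Pts kb F := a ≫ fst F H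
    let h : SGA7.Pts kb H := a ≫ snd F H
    have ha : (a ≫ iFH iF iH : SGA7.Pts kb G) = (f ≫ iF) * (h ≫ iH) := by
      rw [comp_iFH]
      simp only [f, h, Category.assoc]
    obtain ⟨c, hc⟩ := lang_pt H hπ h
    refine ⟨f, (c ≫ iH)⁻¹ * (v ≫ iU)⁻¹, ?_⟩
    have h1 : K815.DictMass.frH G π ((c ≫ iH)⁻¹ * (v ≫ iU)⁻¹) = (π • c ≫ iH)⁻¹ * (π • (v ≫ iU))⁻¹ := by
      rw [map_mul, map_inv, map_inv]
      rfl
    have h2 : g = (u' ≫ iU) * (a ≫ iFH iF iH) := by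
      rw [← hu', inv_mul_cancel_right]
      exact hu
    have h3 : (f ≫ iF) * (c ≫ iH)⁻¹ = (c ≫ iH)⁻¹ * (f ≫ iF) := by
      rw [← GrpObj.inv_comp]
      exact comm_pt iF iH hFH f c⁻¹
    have h4 : (h ≫ iH : SGA7.Pts kb G) = (c ≫ iH) * (π • c ≫ iH)⁻¹ := by
      have h6 : (π • c) ≫ iH = π • (c ≫ iH) := Category.assoc (SGA7.specAut π) c iH
      rw [← hc, MonObj.mul_comp, GrpObj.inv_comp, h6]
    have h5 : (f ≫ iF) * (π • c ≫ iH)⁻¹ = (c ≫ iH)⁻¹ * (a ≫ iFH iF iH) := by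
      rw [ha, h4]
      calc (f ≫ iF) * (π • c ≫ iH)⁻¹ = ((f ≫ iF) * (c ≫ iH)⁻¹) * ((c ≫ iH) * (π • c ≫ iH)⁻¹) := by group
        _ = _ := by rw [h3]; group
    rw [h1]
    change (f ≫ iF) * ((π • c ≫ iH)⁻¹ * (π • (v ≫ iU))⁻¹) = ((c ≫ iH)⁻¹ * (v ≫ iU)⁻¹) * g
    rw [← _root_.mul_assoc, h5, h2, ← hv]
    group
  · obtain ⟨b, hb⟩ := h
    refine ⟨(b ≫ ret (iFH iF iH) iU) ≫ fst F H, ?_⟩
    have h1 := congrArg (fun t => retP (iFH iF iH) iU hUn kb t ≫ fst F H) hb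
    simp only [map_mul, MonObj.mul_comp] at h1
    have h2 : ∀ a : SGA7.Pts kb F, retP (iFH iF iH) iU hUn kb (incP kb iF a) ≫ fst F H = a := fun a => by
      change ((a ≫ iF) ≫ ret (iFH iF iH) iU) ≫ fst F H = a
      rw [hincl, ret_iH, lift_fst]
    rw [h2, h2] at h1
    have h3 : retP (iFH iF iH) iU hUn kb (K815.DictMass.frH G π b) ≫ fst F H =
        K815.DictMass.frH F π ((b ≫ ret (iFH iF iH) iU) ≫ fst F H) := by
      change ((_ ≫ b) ≫ _) ≫ _ = _ ≫ (b ≫ _) ≫ _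
      simp only [Category.assoc]
    rw [h3] at h1
    exact h1
  · rw [card_cent_eq, card_cent_eq, card_cent (iFH iF iH) iU hUn hUu dU hdU hπ]
    have h1 : (incP kb iF a : SGA7.Pts kb G) ≫ ret (iFH iF iH) iU = lift a 1 := by
      change (a ≫ iF) ≫ _ = _
      rw [hincl]
      exact ret_iH (iFH iF iH) iU (lift a 1)
    rw [h1, card_prod F H hπ, _root_.mul_assoc]

end A

section B

variable {k : Type u} [Field k] [Finite k] {kb : Type u} [Field kb] [Algebra k kb] [IsAlgClosed kb]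
  [Algebra.IsAlgebraic k kb]
  {F : Over (Spec (CommRingCat.of k))} [GrpObj F] [Smooth F.hom] [IsAffineHom F.hom]

/-- The mass of `[X/F](k)`. -/
theorem mass_normal {X : Over (Spec (CommRingCat.of k))} [LocallyOfFiniteType X.hom] [QuasiCompact X.hom]
    (a : AlgGrp.Action F X) {π : kb ≃ₐ[k] kb} (hπ : ∀ x, π x = x ^ Nat.card k)
    (K : Subgroup (SGA7.Pts kb F)) [K.Normal] [Finite (SGA7.Pts kb F ⧸ K)] (hK : ∀ n ∈ K, π • n ∈ K)
    (lang : ∀ b : SGA7.Pts kb F, ∀ n ∈ K, ∃ m ∈ K, m * (b * (π • m) * b⁻¹)⁻¹ = n)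
    (Q : ℕ) (hQ0 : Q ≠ 0)
    (hQ : ∀ b : SGA7.Pts kb F, Nat.card {m : SGA7.Pts kb F // m ∈ K ∧ b * (π • m) * b⁻¹ = m} = Q) :
    Finite (StkCnt.IsoCl (StkCnt.pts (AlgSt.QuotSt Scheme.etalePrecoverage F a) k)) ∧
    ∀ [Fintype (StkCnt.IsoCl (StkCnt.pts (AlgSt.QuotSt Scheme.etalePrecoverage F a) k))],
      ∑ c : StkCnt.IsoCl (StkCnt.pts (AlgSt.QuotSt Scheme.etalePrecoverage F a) k),
        ((StkCnt.autCard _ c : ℕ) : ℚ)⁻¹ =
      (Nat.card (Σ y : SGA7.Pts kb F ⧸ K, {x : SGA7.Pts kb X // ac a y.out (π • x) = x}) : ℚ) /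
        ((Nat.card (SGA7.Pts kb F ⧸ K) * Q : ℕ) : ℚ) := by
  classical
  obtain ⟨D⟩ := K815.DictMass.nonempty_Dict (k := k) (k' := k) (kb := kb) a hπ
  let _ : MulAction (SGA7.pt (K := k) kb ⟶ F) (SGA7.pt (K := k) kb ⟶ X) :=
    K815.Tors.mulAction a (SGA7.pt (K := k) kb)
  have hψ : ∀ (g : SGA7.pt (K := k) kb ⟶ F) (x : SGA7.pt (K := k) kb ⟶ X),
      K815.PtEq.s (k := k) π ≫ (g • x) = K815.DictMass.frH F π g • (K815.PtEq.s (k := k) π ≫ x) :=
    fun g x => K815.Tors.comp_ac a (K815.PtEq.s π) g x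
  have hfin : ∀ y : SGA7.Pts kb F ⧸ K, Finite {x : SGA7.pt (K := k) kb ⟶ X //
      (y.out : SGA7.pt (K := k) kb ⟶ F) • (K815.PtEq.s (k := k) π ≫ x) = x} := fun y =>
    (K815.DictMass.finite_tw (k := k) (k' := k) (kb := kb) a hπ y.out).to_subtype
  exact ⟨K869.PairsTriv.finite_isoCl D hψ K lang (fun y => y.out) (fun y => Quotient.out_eq y),
    K869.Pairs.sum_normal D hψ K hK lang Q hQ0 hQ (fun y => y.out) (fun y => Quotient.out_eq y)⟩

/-- The mass of `[E/F](k)`, for `E` finite. -/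
theorem mass_triv {X : Over (Spec (CommRingCat.of k))} [LocallyOfFiniteType X.hom] [QuasiCompact X.hom]
    (a : AlgGrp.Action F X) {π : kb ≃ₐ[k] kb} (hπ : ∀ x, π x = x ^ Nat.card k)
    (K : Subgroup (SGA7.Pts kb F)) [K.Normal] [Finite (SGA7.Pts kb F ⧸ K)] (hK : ∀ n ∈ K, π • n ∈ K)
    (lang : ∀ b : SGA7.Pts kb F, ∀ n ∈ K, ∃ m ∈ K, m * (b * (π • m) * b⁻¹)⁻¹ = n)
    (Q : ℕ) (hQ0 : Q ≠ 0)
    (hQ : ∀ b : SGA7.Pts kb F, Nat.card {m : SGA7.Pts kb F // m ∈ K ∧ b * (π • m) * b⁻¹ = m} = Q)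
    (htriv : ∀ n ∈ K, ∀ x : SGA7.Pts kb X, ac a n x = x)
    [Fintype (StkCnt.IsoCl (StkCnt.pts (AlgSt.QuotSt Scheme.etalePrecoverage F a) k))]
    (J : Type) [Fintype J] (e : J → SGA7.Pts kb X)
    (hdis : ∀ j j' : J, (∃ g : SGA7.Pts kb F, lift g (e j) ≫ a.act = e j') → j = j')
    (hfix : ∀ (j : J) (σ : kb ≃ₐ[k] kb), ∃ g : SGA7.Pts kb F, lift g (σ • e j) ≫ a.act = e j)
    (hall : ∀ y : SGA7.Pts kb X,
      (∀ σ : kb ≃ₐ[k] kb, ∃ g : SGA7.Pts kb F, lift g (σ • y) ≫ a.act = y) →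
        ∃ (j : J) (g : SGA7.Pts kb F), lift g (e j) ≫ a.act = y) :
    ∑ c : StkCnt.IsoCl (StkCnt.pts (AlgSt.QuotSt Scheme.etalePrecoverage F a) k),
      ((StkCnt.autCard _ c : ℕ) : ℚ)⁻¹ = (Fintype.card J : ℚ) / (Q : ℚ) := by
  classical
  obtain ⟨D⟩ := K815.DictMass.nonempty_Dict (k := k) (k' := k) (kb := kb) a hπ
  let _ : MulAction (SGA7.pt (K := k) kb ⟶ F) (SGA7.pt (K := k) kb ⟶ X) :=
    K815.Tors.mulAction a (SGA7.pt (K := k) kb)
  have hψ : ∀ (g : SGA7.pt (K := k) kb ⟶ F) (x : SGA7.pt (K := k) kb ⟶ X),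
      K815.PtEq.s (k := k) π ≫ (g • x) = K815.DictMass.frH F π g • (K815.PtEq.s (k := k) π ≫ x) :=
    fun g x => K815.Tors.comp_ac a (K815.PtEq.s π) g x
  refine K869.PairsTriv.sum_triv D hψ K hK lang Q hQ0 hQ htriv e (fun j => hfix j π)
    (fun j j' g hg => hdis j j' ⟨g, hg⟩) (fun A => hall _ fun σ => ?_)
  obtain ⟨z, h1, h2, h3⟩ := K815.Lc.exists_lc (k := k) (G := F) hπ (D.pr A).1
  exact ⟨z σ, K815.Lc.fixed_of_frob (aX := a) hπ h1 h2 (x := (D.pr A).2) (by rw [h3]; exact D.fix A) σ⟩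

end B

section prodX

variable {k : Type u} [Field k] {kb : Type u} [Field kb] [Algebra k kb]
  {F : Over (Spec (CommRingCat.of k))} [GrpObj F]

theorem card_fix_prod {E V : Over (Spec (CommRingCat.of k))} (aX : AlgGrp.Action F (E ⊗ V))
    (aE : AlgGrp.Action F E) (aV : AlgGrp.Action F V)
    (h : ∀ (f : SGA7.Pts kb F) (e : SGA7.Pts kb E) (v : SGA7.Pts kb V),
      ac aX f (lift e v) = lift (ac aE f e) (ac aV f v)) (π : kb ≃ₐ[k] kb) (f : SGA7.Pts kb F) :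
    Nat.card {x : SGA7.Pts kb (E ⊗ V) // ac aX f (π • x) = x} =
      Nat.card {e : SGA7.Pts kb E // ac aE f (π • e) = e} * Nat.card {v : SGA7.Pts kb V // ac aV f (π • v) = v} := by
  rw [← Nat.card_prod]
  have hl : ∀ (e : SGA7.Pts kb E) (v : SGA7.Pts kb V), π • (lift e v : SGA7.Pts kb (E ⊗ V)) = lift (π • e) (π • v) :=
    fun f h => comp_lift (SGA7.specAut π) f h
  have hx : ∀ x : SGA7.Pts kb (E ⊗ V), x = lift (x ≫ fst E V) (x ≫ snd E V) := fun x => by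
    ext1
    · rw [lift_fst]
    · rw [lift_snd]
  have key : ∀ (e : SGA7.Pts kb E) (v : SGA7.Pts kb V),
      ac aX f (π • (lift e v : SGA7.Pts kb (E ⊗ V))) = lift e v ↔ ac aE f (π • e) = e ∧ ac aV f (π • v) = v := by
    intro e v
    rw [hl, h]
    constructor
    · intro h1
      have h2 := congrArg (fun t => t ≫ fst E V) h1
      have h3 := congrArg (fun t => t ≫ snd E V) h1
      simp only [lift_fst, lift_snd] at h2 h3
      exact ⟨h2, h3⟩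
    · rintro ⟨h1, h2⟩
      rw [h1, h2]
  have key' : ∀ x : SGA7.Pts kb (E ⊗ V), ac aX f (π • x) = x ↔
      ac aE f (π • (x ≫ fst E V : SGA7.Pts kb E)) = x ≫ fst E V ∧
        ac aV f (π • (x ≫ snd E V : SGA7.Pts kb V)) = x ≫ snd E V := by
    intro x
    conv_lhs => rw [hx x]
    exact key _ _
  exact Nat.card_congr
    { toFun := fun t => (⟨t.1 ≫ fst E V, ((key' t.1).1 t.2).1⟩, ⟨t.1 ≫ snd E V, ((key' t.1).1 t.2).2⟩)
      invFun := fun t => ⟨lift t.1.1 t.2.1, (key _ _).2 ⟨t.1.2, t.2.2⟩⟩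
      left_inv := fun t => Subtype.ext (hx t.1).symm
      right_inv := fun t => Prod.ext (Subtype.ext (lift_fst _ _)) (Subtype.ext (lift_snd _ _)) }

end prodX

section main

theorem count (k : Type u) [Field k] [Finite k]
    (kb : Type u) [Field kb] [Algebra k kb] [IsAlgClosure k kb]
    (G F H U : Over (Spec (CommRingCat.of k))) [GrpObj G] [GrpObj F] [GrpObj H] [GrpObj U]
    [Smooth G.hom] [IsAffineHom G.hom] [Smooth F.hom] [IsAffineHom F.hom]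
    [Smooth H.hom] [IsAffineHom H.hom] [ConnectedSpace H.left]
    [Smooth U.hom] [IsAffineHom U.hom] [ConnectedSpace U.left]
    (iF : F ⟶ G) (iH : H ⟶ G) (iU : U ⟶ G) [IsMonHom iF] [IsMonHom iH] [IsMonHom iU]
    [Mono iF] [Mono iH] [Mono iU]
    (hFH : (fst F H ≫ iF) * (snd F H ≫ iH) = (snd F H ≫ iH) * (fst F H ≫ iF))
    (hUn : AlgGrp.IsNormalHom iU)
    (hsd : IsIso ((fst (F ⊗ H) U ≫ fst F H ≫ iF) * (fst (F ⊗ H) U ≫ snd F H ≫ iH) * (snd (F ⊗ H) U ≫ iU)))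
    (hFu : Red.HasNoSubtorus kb (GalTw.bcK kb F)) (hUu : Red.HasNoSubtorus kb (GalTw.bcK kb U))
    (dF dU : ℕ) (hdF : topologicalKrullDim ↥F.left = (dF : WithBot ℕ∞))
    (hdU : topologicalKrullDim ↥U.left = (dU : WithBot ℕ∞))
    (E V : Over (Spec (CommRingCat.of k))) [IsFinite E.hom] [IsReduced E.left]
    (n : ℕ) (eV : V.left ≅ 𝔸(ULift.{u} (Fin n); Spec (CommRingCat.of k)))
    (heV : eV.hom ≫ (𝔸(ULift.{u} (Fin n); Spec (CommRingCat.of k)) ↘ Spec (CommRingCat.of k)) = V.hom)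
    (aX : AlgGrp.Action G (E ⊗ V)) (aE : AlgGrp.Action F E) (aV : AlgGrp.Action F V)
    (haF : (iF ▷ (E ⊗ V)) ≫ aX.act =
      lift (lift (fst F (E ⊗ V)) (snd F (E ⊗ V) ≫ fst E V) ≫ aE.act)
        (lift (fst F (E ⊗ V)) (snd F (E ⊗ V) ≫ snd E V) ≫ aV.act))
    (Fc : Over (Spec (CommRingCat.of k))) [GrpObj Fc] [Smooth Fc.hom] [QuasiCompact Fc.hom]
    [ConnectedSpace Fc.left] (ρ : F ⟶ Fc) [IsMonHom ρ] (aVc : AlgGrp.Action Fc V)
    (haV : aV.act = (ρ ▷ V) ≫ aVc.act)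
    (J : Type) [Fintype J] (e : J → SGA7.Pts kb E)
    (hdis : ∀ j j' : J, (∃ g : SGA7.Pts kb F, lift g (e j) ≫ aE.act = e j') → j = j')
    (hfix : ∀ (j : J) (σ : kb ≃ₐ[k] kb), ∃ g : SGA7.Pts kb F, lift g (σ • e j) ≫ aE.act = e j)
    (hall : ∀ y : SGA7.Pts kb E,
      (∀ σ : kb ≃ₐ[k] kb, ∃ g : SGA7.Pts kb F, lift g (σ • y) ≫ aE.act = y) →
        ∃ (j : J) (g : SGA7.Pts kb F), lift g (e j) ≫ aE.act = y)
    (h : StkCnt.IsEssFinite (StkCnt.pts (AlgSt.QuotSt Scheme.etalePrecoverage G aX) k)) :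
    StkCnt.ptCount (AlgSt.QuotSt Scheme.etalePrecoverage G aX) k h *
        (Nat.card (SGA7.Pts k H) : ℚ) * (Nat.card k : ℚ) ^ (dU + dF) =
      (Fintype.card J : ℚ) * (Nat.card k : ℚ) ^ n := by
  classical
  have hac : IsAlgClosed kb := IsAlgClosure.isAlgClosed k
  have halg : Algebra.IsAlgebraic k kb := IsAlgClosure.isAlgebraic
  obtain ⟨π, hπ⟩ := K815.GalFin.exists_frob (k := k) (kb := kb)
  obtain ⟨K, hKn, hKf, hKφ, hlang, hcard, htriv⟩ := K869.FinAct.exists_norm F hFu dF hdF hπ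
  obtain ⟨hV1, hV2⟩ := locallyOfFiniteType_aff V n eV heV
  have hE1 : LocallyOfFiniteType E.hom := inferInstance
  have hX1 : LocallyOfFiniteType (E ⊗ V).hom := by
    rw [Over.tensorObj_hom]
    infer_instance
  have hX2 : QuasiCompact (E ⊗ V).hom := by
    rw [Over.tensorObj_hom]
    infer_instance
  have hQ0 : Nat.card k ^ dF ≠ 0 := pow_ne_zero _ Nat.card_pos.ne'
  -- the restricted action
  have hact : ∀ (f : SGA7.Pts kb F) (e : SGA7.Pts kb E) (v : SGA7.Pts kb V),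
      ac (aX.restrict iF) f (lift e v) = lift (ac aE f e) (ac aV f v) := by
    intro f e v
    rw [ac_def, AlgGrp.Action.restrict_act, haF, comp_lift, ← Category.assoc, ← Category.assoc, comp_lift, comp_lift,
      lift_fst, lift_snd_assoc, lift_snd_assoc, lift_fst, lift_snd]
    rfl
  have hVn : ∀ f : SGA7.Pts kb F, Nat.card {v : SGA7.Pts kb V // ac aV f (π • v) = v} = Nat.card k ^ n := by
    intro f
    rw [← card_aff V n eV heV, ← card_tw Fc aVc hπ (f ≫ ρ)]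
    refine Nat.card_congr (Equiv.subtypeEquivRight fun v => ?_)
    rw [ac_def, ac_def, haV, lift_whiskerRight_assoc]
  obtain ⟨hfX, hsX⟩ := mass_normal (X := E ⊗ V) (aX.restrict iF) hπ K hKφ hlang (Nat.card k ^ dF) hQ0 hcard
  obtain ⟨hfE, hsE⟩ := mass_normal (X := E) aE hπ K hKφ hlang (Nat.card k ^ dF) hQ0 hcard
  have hFX : Fintype (StkCnt.IsoCl (StkCnt.pts (AlgSt.QuotSt Scheme.etalePrecoverage F (aX.restrict iF)) k)) :=
    Fintype.ofFinite _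
  have hFE : Fintype (StkCnt.IsoCl (StkCnt.pts (AlgSt.QuotSt Scheme.etalePrecoverage F aE) k)) :=
    Fintype.ofFinite _
  have hFG : Fintype (StkCnt.IsoCl (StkCnt.pts (AlgSt.QuotSt Scheme.etalePrecoverage G aX) k)) :=
    @Fintype.ofFinite _ h.finite_isoCl
  have hA := count_A k kb G F H U iF iH iU hFH hUn hsd hUu dU hdU (E ⊗ V) aX hπ
  have hT := mass_triv (X := E) aE hπ K hKφ hlang (Nat.card k ^ dF) hQ0 hcard
    (fun m hm x => htriv E aE m x hm) J e hdis hfix hall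
  have hc : Nat.card (Σ y : SGA7.Pts kb F ⧸ K,
      {x : SGA7.Pts kb (E ⊗ V) // ac (aX.restrict iF) y.out (π • x) = x}) =
      Nat.card (Σ y : SGA7.Pts kb F ⧸ K, {x : SGA7.Pts kb E // ac aE y.out (π • x) = x}) * Nat.card k ^ n := by
    have hf1 : ∀ y : SGA7.Pts kb F ⧸ K, Finite {x : SGA7.Pts kb (E ⊗ V) // ac (aX.restrict iF) y.out (π • x) = x} :=
      fun y => (K815.DictMass.finite_tw (k := k) (k' := k) (kb := kb) (aX.restrict iF) hπ y.out).to_subtype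
    have hf2 : ∀ y : SGA7.Pts kb F ⧸ K, Finite {x : SGA7.Pts kb E // ac aE y.out (π • x) = x} :=
      fun y => (K815.DictMass.finite_tw (k := k) (k' := k) (kb := kb) aE hπ y.out).to_subtype
    let _ := Fintype.ofFinite (SGA7.Pts kb F ⧸ K)
    rw [Nat.card_sigma, Nat.card_sigma, Finset.sum_mul]
    refine Finset.sum_congr rfl fun y _ => ?_
    rw [card_fix_prod (aX.restrict iF) aE aV hact π y.out, hVn]
  rw [StkCnt.ptCount, StkCnt.count_eq_sum]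
  have h1 := hsX
  have h2 := hsE
  rw [hc] at h1
  have hq : (Nat.card k : ℚ) ≠ 0 := Nat.cast_ne_zero.2 Nat.card_pos.ne'
  have h3 : ∑ c : StkCnt.IsoCl (StkCnt.pts (AlgSt.QuotSt Scheme.etalePrecoverage F (aX.restrict iF)) k),
      ((StkCnt.autCard _ c : ℕ) : ℚ)⁻¹ = (Fintype.card J : ℚ) / ((Nat.card k ^ dF : ℕ) : ℚ) * (Nat.card k : ℚ) ^ n := by
    rw [h1, ← hT, h2]
    push_cast
    ring
  rw [h3] at hA
  push_cast at hA
  have h4 : (Nat.card k : ℚ) ^ dF ≠ 0 := pow_ne_zero _ hq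
  calc _ = ((∑ c : StkCnt.IsoCl (StkCnt.pts (AlgSt.QuotSt Scheme.etalePrecoverage G aX) k),
        ((StkCnt.autCard _ c : ℕ) : ℚ)⁻¹) * ((Nat.card (SGA7.Pts k H) : ℚ) * (Nat.card k : ℚ) ^ dU)) *
          (Nat.card k : ℚ) ^ dF := by ring
    _ = _ := by
      rw [hA]
      field_simp

end main

end K869.FinAff
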