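import Groth.Agent.StackCount.K869.FinAct
import Groth.Agent.StackCount.K815.Rat
import Mathlib.AlgebraicGeometry.AffineSpace

/-!
# Twisted fixed points on an affine space with an action of a connected group
-/

set_option autoImplicit false
set_option linter.unusedSectionVars false
universe u
open CategoryTheory Limits MonoidalCategory CartesianMonoidalCategory MonObj GrpObj AlgebraicGeometry

namespace K869.AffAct

open K815.Frob K815.PtsBC K815.TwLang K815.Tors GalTw K869.PtSub Groth.Agent.Sga3B.BcPts K869.Stab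

section lang

variable {k : Type u} [Field k] [Finite k] {kb : Type u} [Field kb] [Algebra k kb] [IsAlgClosed kb]

/-- Lang's theorem for a smooth connected group. -/
theorem lang_pt (H : Over (Spec (CommRingCat.of k))) [GrpObj H] [Smooth H.hom] [ConnectedSpace H.left]
    {π : kb ≃ₐ[k] kb} (hπ : ∀ x, π x = x ^ Nat.card k) (h : SGA7.Pts kb H) :
    ∃ c : SGA7.Pts kb H, c * (π • c)⁻¹ = h := by
  have hsm : Smooth (bcK kb H).hom := by
    change Smooth (pullback.snd _ _)
    infer_instance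
  have hcon : ConnectedSpace (bcK kb H).left := connectedSpace_bcK H
  obtain ⟨c', hc'⟩ := K815.Lang.exists_pt (FrK kb H) (infKill_FrK H) (secOfPt kb h)
  obtain ⟨c, rfl⟩ : ∃ c : SGA7.Pts kb H, secOfPt kb c = c' := ⟨ofSec c', sec_ofSec c'⟩
  refine ⟨c, ?_⟩
  apply sec_injective
  rw [sec_mul, sec_inv, ← hc', ← pt_comp_Fr' hπ, sec_comp]

theorem smul_ac {G X : Over (Spec (CommRingCat.of k))} [GrpObj G] (aX : AlgGrp.Action G X) (π : kb ≃ₐ[k] kb)
    (g : SGA7.Pts kb G) (x : SGA7.Pts kb X) : π • ac aX g x = ac aX (π • g) (π • x) :=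
  comp_ac aX (SGA7.specAut π) g x

theorem card_tw (H : Over (Spec (CommRingCat.of k))) [GrpObj H] [Smooth H.hom] [ConnectedSpace H.left]
    {V : Over (Spec (CommRingCat.of k))} (aV : AlgGrp.Action H V)
    {π : kb ≃ₐ[k] kb} (hπ : ∀ x, π x = x ^ Nat.card k) (h : SGA7.Pts kb H) :
    Nat.card {v : SGA7.Pts kb V // ac aV h (π • v) = v} = Nat.card (SGA7.Pts k V) := by
  obtain ⟨c, rfl⟩ := lang_pt H hπ h
  rw [K815.Rat.card_rat hπ V]
  have hinv : (π • c)⁻¹ = π • c⁻¹ := (smul_inv' π c).symm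
  rw [hinv]
  refine Nat.card_congr
    { toFun := fun v => ⟨ac aV c⁻¹ v.1, ?_⟩
      invFun := fun v => ⟨ac aV c v.1, ?_⟩
      left_inv := fun v => Subtype.ext (ac_ac_inv aV c v.1)
      right_inv := fun v => Subtype.ext (ac_inv_ac aV c v.1) }
  · obtain ⟨v, h1⟩ := v
    change π • ac aV c⁻¹ v = ac aV c⁻¹ v
    rw [ac_mul, ← smul_ac] at h1
    rw [← ac_inv_ac aV c (π • ac aV c⁻¹ v), h1]
  · rw [ac_mul, ← smul_ac, ac_inv_ac, v.2]

end lang

section aff

variable {k : Type u} [Field k]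

theorem card_aff (V : Over (Spec (CommRingCat.of k)))
    (n : ℕ) (eV : V.left ≅ 𝔸(ULift.{u} (Fin n); Spec (CommRingCat.of k)))
    (heV : eV.hom ≫ (𝔸(ULift.{u} (Fin n); Spec (CommRingCat.of k)) ↘ Spec (CommRingCat.of k)) = V.hom) :
    Nat.card (SGA7.Pts k V) = Nat.card k ^ n := by
  let _ : (Spec (CommRingCat.of k)).Over (Spec (CommRingCat.of k)) := ⟨(SGA7.pt (K := k) k).hom⟩
  have e1 : SGA7.Pts k V ≃ { f : Spec (CommRingCat.of k) ⟶ 𝔸(ULift.{u} (Fin n); Spec (CommRingCat.of k)) //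
      f.IsOver (Spec (CommRingCat.of k)) } :=
    { toFun := fun x => ⟨x.left ≫ eV.hom, ⟨by
        rw [Category.assoc, heV]
        exact Over.w x⟩⟩
      invFun := fun f => Over.homMk (f.1 ≫ eV.inv) (by
        rw [← heV, Category.assoc, Iso.inv_hom_id_assoc]
        exact f.2.1)
      left_inv := fun x => by
        apply Over.OverMorphism.ext
        change (x.left ≫ eV.hom) ≫ eV.inv = x.left
        rw [Category.assoc, Iso.hom_inv_id, Category.comp_id]
      right_inv := fun f => by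
        apply Subtype.ext
        change (f.1 ≫ eV.inv) ≫ eV.hom = f.1
        rw [Category.assoc, Iso.inv_hom_id, Category.comp_id] }
  have e2 : Γ(Spec (CommRingCat.of k), ⊤) ≃ k := (Scheme.ΓSpecIso (CommRingCat.of k)).commRingCatIsoToRingEquiv.toEquiv
  have e3 : { f : Spec (CommRingCat.of k) ⟶ 𝔸(ULift.{u} (Fin n); Spec (CommRingCat.of k)) //
      f.IsOver (Spec (CommRingCat.of k)) } ≃ (ULift.{u} (Fin n) → Γ(Spec (CommRingCat.of k), ⊤)) :=
    AffineSpace.homOverEquiv (n := ULift.{u} (Fin n)) (S := Spec (CommRingCat.of k)) (X := Spec (CommRingCat.of k))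
  have e4 : (ULift.{u} (Fin n) → Γ(Spec (CommRingCat.of k), ⊤)) ≃ (Fin n → k) := Equiv.arrowCongr Equiv.ulift e2
  rw [Nat.card_congr ((e1.trans e3).trans e4)]
  rw [Nat.card_fun, Nat.card_eq_fintype_card (α := Fin n), Fintype.card_fin]

theorem locallyOfFiniteType_aff (V : Over (Spec (CommRingCat.of k)))
    (n : ℕ) (eV : V.left ≅ 𝔸(ULift.{u} (Fin n); Spec (CommRingCat.of k)))
    (heV : eV.hom ≫ (𝔸(ULift.{u} (Fin n); Spec (CommRingCat.of k)) ↘ Spec (CommRingCat.of k)) = V.hom) :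
    LocallyOfFiniteType V.hom ∧ QuasiCompact V.hom := by
  rw [← heV]
  constructor
  · infer_instance
  · infer_instance

end aff

end K869.AffAct
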