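import Mathlib.LinearAlgebra.LinearIndependent.Lemmas
import Mathlib.LinearAlgebra.LinearIndependent.Basic
import Mathlib.FieldTheory.Finite.GaloisField
import Mathlib.FieldTheory.Finite.Extension
import Mathlib.FieldTheory.IsAlgClosed.AlgebraicClosure
import Mathlib.Analysis.SpecialFunctions.Pow.Real
import Mathlib.RingTheory.Flat.Basic
import Mathlib.RingTheory.TensorProduct.Maps
import Mathlib.Analysis.Complex.Basic
import Mathlib.Algebra.Field.ULift

/-!
# Power sums and counting points: elementary tools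
-/

set_option autoImplicit false
set_option linter.unusedSectionVars false
universe u v

open scoped TensorProduct

namespace K869.ExpPow

/-- Evaluation of a formal combination of complex numbers at the `m`-th power. -/
noncomputable def ev (m : ℕ) : (ℂ →₀ ℂ) →ₗ[ℂ] ℂ := Finsupp.linearCombination ℂ (fun z : ℂ => z ^ m)

theorem ev_single (m : ℕ) (z c : ℂ) : ev m (Finsupp.single z c) = c * z ^ m := by
  rw [ev, Finsupp.linearCombination_single, smul_eq_mul]

theorem linInd : LinearIndependent ℂ (fun (z : ℂ) (m : Multiplicative ℕ) => z ^ (Multiplicative.toAdd m)) := by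
  have h := linearIndependent_monoidHom (Multiplicative ℕ) ℂ
  exact h.comp (fun z : ℂ => powersHom ℂ z) (powersHom ℂ).injective

theorem coeff_eq_zero (f : ℂ →₀ ℂ) (m0 : ℕ) (h : ∀ m, m0 ≤ m → ev m f = 0) (z : ℂ) : f z * z ^ m0 = 0 := by
  let g : ℂ →₀ ℂ := Finsupp.onFinset f.support (fun z => f z * z ^ m0) (fun z hz => by
    rw [Finsupp.mem_support_iff]
    exact left_ne_zero_of_mul hz)
  have hg : g = 0 := by
    refine linearIndependent_iff.mp linInd g ?_
    funext m
    have h1 := h (m0 + Multiplicative.toAdd m) (Nat.le_add_right _ _)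
    rw [ev, Finsupp.linearCombination_apply, Finsupp.sum] at h1
    rw [Finsupp.linearCombination_apply, Finsupp.sum_of_support_subset (s := f.support) _
      Finsupp.support_onFinset_subset _ (fun i _ => by simp), Finset.sum_apply, Pi.zero_apply]
    refine Eq.trans (Finset.sum_congr rfl fun z _ => ?_) h1
    change (f z * z ^ m0) * z ^ (Multiplicative.toAdd m) = f z * z ^ (m0 + Multiplicative.toAdd m)
    rw [pow_add, mul_assoc]
  exact DFunLike.congr_fun hg z

theorem ev_eq_zero (f : ℂ →₀ ℂ) (m0 : ℕ) (h : ∀ m, m0 ≤ m → ev m f = 0) (m : ℕ) (hm : 1 ≤ m) : ev m f = 0 := by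
  rw [ev, Finsupp.linearCombination_apply, Finsupp.sum]
  refine Finset.sum_eq_zero fun z _ => ?_
  rcases mul_eq_zero.mp (coeff_eq_zero f m0 h z) with h1 | h1
  · rw [h1, zero_smul]
  · have h2 : z = 0 := by
      by_contra h3
      exact pow_ne_zero _ h3 h1
    rw [h2, zero_pow (by omega), smul_zero]

/-- If a difference of power sums is `Q ^ m` for all large `m`, it is so for all `m ≥ 1`. -/
theorem powsum_eq {a b : ℕ} (α : Fin a → ℂ) (β : Fin b → ℂ) (Q : ℂ) (m0 : ℕ)
    (h : ∀ m, m0 ≤ m → (∑ j, β j ^ m) - ∑ i, α i ^ m = Q ^ m) (m : ℕ) (hm : 1 ≤ m) :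
    (∑ j, β j ^ m) - ∑ i, α i ^ m = Q ^ m := by
  let f : ℂ →₀ ℂ := (∑ j, Finsupp.single (β j) 1) - (∑ i, Finsupp.single (α i) 1) - Finsupp.single Q 1
  have hf : ∀ m, ev m f = (∑ j, β j ^ m) - ∑ i, α i ^ m - Q ^ m := by
    intro m
    simp only [f, map_sub, map_sum, ev_single, one_mul]
  have h1 := ev_eq_zero f m0 (fun m hm => by rw [hf, h m hm, sub_self]) m hm
  rw [hf] at h1
  exact sub_eq_zero.mp h1

/-- Powers of `p` that are close are equal. -/
theorem pow_eq_of_close {p : ℕ} (hp : 2 ≤ p) (a b : ℕ) (ε : ℝ) (hε : ε < 1 / 2)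
    (h : |((p ^ a : ℕ) : ℝ) - ((p ^ b : ℕ) : ℝ)| ≤ ε * ((p ^ b : ℕ) : ℝ)) : p ^ a = p ^ b := by
  have hpb : (0 : ℝ) < ((p ^ b : ℕ) : ℝ) := by
    have : 0 < p ^ b := pow_pos (by omega) b
    exact_mod_cast this
  rcases lt_trichotomy a b with hab | hab | hab
  · exfalso
    have h1 : p ^ a * 2 ≤ p ^ b := by
      calc p ^ a * 2 ≤ p ^ a * p := Nat.mul_le_mul_left _ hp
        _ = p ^ (a + 1) := (pow_succ p a).symm
        _ ≤ p ^ b := Nat.pow_le_pow_right (by omega) hab
    have h2 : ((p ^ a : ℕ) : ℝ) * 2 ≤ ((p ^ b : ℕ) : ℝ) := by exact_mod_cast h1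
    have h3 := neg_abs_le (((p ^ a : ℕ) : ℝ) - ((p ^ b : ℕ) : ℝ))
    nlinarith
  · rw [hab]
  · exfalso
    have h1 : p ^ b * 2 ≤ p ^ a := by
      calc p ^ b * 2 ≤ p ^ b * p := Nat.mul_le_mul_left _ hp
        _ = p ^ (b + 1) := (pow_succ p b).symm
        _ ≤ p ^ a := Nat.pow_le_pow_right (by omega) hab
    have h2 : ((p ^ b : ℕ) : ℝ) * 2 ≤ ((p ^ a : ℕ) : ℝ) := by exact_mod_cast h1
    have h3 := le_abs_self (((p ^ a : ℕ) : ℝ) - ((p ^ b : ℕ) : ℝ))
    nlinarith

section homs

variable {k : Type u} [Field k] [Finite k] {kb : Type u} [Field kb] [Algebra k kb] [IsAlgClosed kb]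
  (A : Type u) [CommRing A] [Algebra k A]

/-- Points of `A` over a finite extension, as Frobenius-fixed geometric points. -/
theorem homs_equiv (F : Type u) [Field F] [Algebra k F] [Finite F] :
    Nonempty ((A →ₐ[k] F) ≃ {χ : A →ₐ[k] kb // ∀ a, χ a ^ Nat.card F = χ a}) := by
  classical
  have hfin : Module.Finite k F := inferInstance
  let i : F →ₐ[k] kb := IsAlgClosed.lift
  have hi : Function.Injective i := i.toRingHom.injective
  let _ := Fintype.ofFinite F
  have key : ∀ x : kb, x ^ Nat.card F = x → ∃ y : F, i y = x := by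
    intro x hx
    -- the polynomial `X ^ q - X` has at most `q` roots
    let P : Polynomial kb := Polynomial.X ^ Nat.card F - Polynomial.X
    have hq : 1 < Nat.card F := Finite.one_lt_card
    have hP : P ≠ 0 := FiniteField.X_pow_card_sub_X_ne_zero kb hq
    have hdeg : P.natDegree = Nat.card F := FiniteField.X_pow_card_sub_X_natDegree_eq kb hq
    have hroots : ∀ y : F, i y ∈ P.roots := by
      intro y
      rw [Polynomial.mem_roots hP, Polynomial.IsRoot.def]
      simp only [P, Polynomial.eval_sub, Polynomial.eval_pow, Polynomial.eval_X]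
      rw [← map_pow, Nat.card_eq_fintype_card, FiniteField.pow_card, sub_self]
    have hsub : Finset.univ.image i ⊆ P.roots.toFinset := by
      intro z hz
      obtain ⟨y, _, rfl⟩ := Finset.mem_image.mp hz
      exact Multiset.mem_toFinset.mpr (hroots y)
    have hcard : P.roots.toFinset.card ≤ (Finset.univ.image i).card := by
      rw [Finset.card_image_of_injective _ hi, Finset.card_univ, ← Nat.card_eq_fintype_card, ← hdeg]
      exact (Multiset.toFinset_card_le _).trans (Polynomial.card_roots' P)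
    have heq := Finset.eq_of_subset_of_card_le hsub hcard
    have hx' : x ∈ P.roots.toFinset := by
      rw [Multiset.mem_toFinset, Polynomial.mem_roots hP, Polynomial.IsRoot.def]
      simp only [P, Polynomial.eval_sub, Polynomial.eval_pow, Polynomial.eval_X]
      rw [hx, sub_self]
    rw [← heq] at hx'
    obtain ⟨y, _, rfl⟩ := Finset.mem_image.mp hx'
    exact ⟨y, rfl⟩
  refine ⟨Equiv.ofBijective (fun χ => ⟨i.comp χ, fun a => ?_⟩) ⟨?_, ?_⟩⟩
  · change i (χ a) ^ Nat.card F = i (χ a)
    rw [← map_pow, Nat.card_eq_fintype_card, FiniteField.pow_card]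
  · intro χ χ' h
    have h1 := congrArg Subtype.val h
    ext a
    exact hi (DFunLike.congr_fun h1 a)
  · rintro ⟨χ, hχ⟩
    choose f hf using fun a => key (χ a) (hχ a)
    refine ⟨{ toFun := f, map_one' := hi ?_, map_mul' := fun x y => hi ?_, map_zero' := hi ?_, map_add' := fun x y => hi ?_, commutes' := fun r => hi ?_ }, ?_⟩
    · rw [hf, map_one, map_one]
    · rw [hf, map_mul, map_mul, hf, hf]
    · rw [hf, map_zero, map_zero]
    · rw [hf, map_add, map_add, hf, hf]
    · rw [hf, AlgHom.commutes, AlgHom.commutes]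
    · apply Subtype.ext
      ext a
      exact hf a

theorem card_homs_eq (F : Type u) [Field F] [Algebra k F] [Finite F] :
    Nat.card (A →ₐ[k] F) = Nat.card {χ : A →ₐ[k] kb // ∀ a, χ a ^ Nat.card F = χ a} :=
  Nat.card_congr (homs_equiv A F).some

/-- There is an extension of `k` of every degree. -/
theorem exists_ext (k : Type u) [Field k] [Finite k] (m : ℕ) (hm : 1 ≤ m) :
    ∃ (F : Type u) (_ : Field F) (_ : Algebra k F) (_ : Finite F), Module.finrank k F = m ∧ Nat.card F = Nat.card k ^ m := by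
  obtain ⟨p, hp⟩ := CharP.exists k
  have hpp : Fact p.Prime := ⟨CharP.char_is_prime k p⟩
  have hm0 : NeZero m := ⟨by omega⟩
  have h1 : Module.finrank k (ULift.{u} (FiniteField.Extension k p m)) = m := by
    rw [(ULift.moduleEquiv (R := k) (M := FiniteField.Extension k p m)).finrank_eq]
    exact FiniteField.finrank_extension k p m
  refine ⟨ULift.{u} (FiniteField.Extension k p m), inferInstance, inferInstance, inferInstance, h1, ?_⟩
  rw [Module.natCard_eq_pow_finrank (K := k), h1]

end homs

end K869.ExpPow
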