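import Groth.Agent.S0609
import Groth.Agent.Zeta.K468.Geom
import Groth.Agent.Zeta.K466.PlaneCurve
import Groth.Agent.StackCount.K869.ExpPow

/-!
# Counting points of a geometrically integral affine scheme with `p`-power point counts
-/

set_option autoImplicit false
set_option linter.unusedSectionVars false
universe u v

open scoped TensorProduct
open CategoryTheory AlgebraicGeometry

namespace K869.CountFix

open K869.ExpPow

variable {k : Type u} [Field k] 

theorem pointCount_Spec (A : Type u) [CommRing A] [Algebra k A] (F : Type u) [Field F] [Algebra k F] :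
    SgaExt.pointCount (Spec.map (CommRingCat.ofHom (algebraMap k A))) F = Nat.card (A →ₐ[k] F) := by
  unfold SgaExt.pointCount
  symm
  refine Nat.card_congr (Equiv.ofBijective (fun χ => ⟨Spec.map (CommRingCat.ofHom χ.toRingHom), ?_⟩) ⟨?_, ?_⟩)
  · rw [← Spec.map_comp, ← CommRingCat.ofHom_comp]
    congr 2
    exact χ.comp_algebraMap
  · intro χ χ' h
    have h1 := Spec.map_injective (congrArg Subtype.val h)
    have h2 := congrArg CommRingCat.Hom.hom h1
    exact AlgHom.coe_ringHom_injective h2
  · rintro ⟨g, hg⟩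
    refine ⟨{ (Spec.preimage g).hom with commutes' := fun r => ?_ }, ?_⟩
    · have h1 : CommRingCat.ofHom (algebraMap k A) ≫ Spec.preimage g = CommRingCat.ofHom (algebraMap k F) := by
        apply Spec.map_injective
        rw [Spec.map_comp, Spec.map_preimage, hg]
      exact RingHom.congr_fun (congrArg CommRingCat.Hom.hom h1) r
    · apply Subtype.ext
      exact Spec.map_preimage g

theorem N_eq (A : Type u) [CommRing A] [Algebra k A] (F : Type u) [Field F] [Algebra k F] :
    K468.Cnt.N A (algebraMap k F) = Nat.card (A →ₐ[k] F) := by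
  unfold K468.Cnt.N
  refine Nat.card_congr ⟨fun ψ => { ψ.1 with commutes' := fun r => RingHom.congr_fun ψ.2 r },
    fun χ => ⟨χ.toRingHom, χ.comp_algebraMap⟩, fun ψ => rfl, fun χ => rfl⟩

variable [Finite k] {kb : Type u} [Field kb] [Algebra k kb] [IsAlgClosed kb]

theorem isDomain_algClosure (A : Type u) [CommRing A] [Algebra k A] [IsDomain (kb ⊗[k] A)] :
    IsDomain (AlgebraicClosure k ⊗[k] A) := by
  let i : AlgebraicClosure k →ₐ[k] kb := IsAlgClosed.lift
  let f : AlgebraicClosure k ⊗[k] A →ₐ[k] kb ⊗[k] A := Algebra.TensorProduct.map i (AlgHom.id k A)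
  have hf : Function.Injective f := Module.Flat.rTensor_preserves_injective_linearMap (M := A) i.toLinearMap
    i.toRingHom.injective
  exact Function.Injective.isDomain f.toRingHom hf

/-- **Point count.** A geometrically integral affine `k`-scheme of dimension `d` such that the number of points over
each finite extension is a power of `p` has `q ^ d` points. -/
theorem card_fix (A : Type u) [CommRing A] [Algebra k A] [Algebra.FiniteType k A] [IsDomain (kb ⊗[k] A)] (d : ℕ)
    (hd : ringKrullDim A = d) {p : ℕ} (hp : p.Prime) [CharP k p]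
    (H : ∀ m, 1 ≤ m → Finite {χ : A →ₐ[k] kb // ∀ a, χ a ^ (Nat.card k ^ m) = χ a} →
      ∃ n, Nat.card {χ : A →ₐ[k] kb // ∀ a, χ a ^ (Nat.card k ^ m) = χ a} = p ^ n) :
    Nat.card {χ : A →ₐ[k] kb // ∀ a, χ a ^ Nat.card k = χ a} = Nat.card k ^ d := by
  classical
  have dom := isDomain_algClosure (k := k) (kb := kb) A
  have domA : IsDomain A := Function.Injective.isDomain
    (Algebra.TensorProduct.includeRight : A →ₐ[k] kb ⊗[k] A).toRingHom
      (Algebra.TensorProduct.includeRight_injective (algebraMap k kb).injective)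
  have hd' : ringKrullDim (k ⊗[k] A) = d := by
    rw [ringKrullDim_eq_of_ringEquiv (Algebra.TensorProduct.lid k A).toRingEquiv, hd]
  obtain ⟨h, hh, C, hC, hLW⟩ := K468.Cnt.LW_of_geom K466.PlaneCurve.planeCurve k A d hd'
  have hlft : LocallyOfFiniteType (Spec.map (CommRingCat.ofHom (algebraMap k A))) := by
    rw [HasRingHomProperty.Spec_iff (P := @LocallyOfFiniteType)]
    exact RingHom.finiteType_algebraMap.mpr inferInstance
  obtain ⟨a, b, α, β, _, _, hS⟩ := Groth.Agent.S0609.result (Spec.map (CommRingCat.ofHom (algebraMap k A)))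
  choose F fF aF finF hdeg hcard using fun (m : ℕ) (hm : 1 ≤ m) => exists_ext k m hm
  have hcount : ∀ (m : ℕ) (hm : 1 ≤ m), ∃ n, Nat.card (A →ₐ[k] F m hm) = p ^ n := by
    intro m hm
    have h1 : Finite (A →ₐ[k] F m hm) := by
      have h2 := K468.Cnt.finite_homs (A := A) (algebraMap k (F m hm))
      exact Finite.of_injective (fun χ => (⟨χ.toRingHom, χ.comp_algebraMap⟩ :
        {ψ : A →+* F m hm // ψ.comp (algebraMap k A) = algebraMap k (F m hm)})) fun χ χ' h =>
          AlgHom.coe_ringHom_injective (congrArg Subtype.val h)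
    have h3 : Finite {χ : A →ₐ[k] kb // ∀ a, χ a ^ (Nat.card k ^ m) = χ a} := by
      rw [← hcard m hm]
      exact Finite.of_equiv _ (homs_equiv A (F m hm)).some
    rw [card_homs_eq (kb := kb) A (F m hm), hcard m hm]
    exact H m hm h3
  have hq1 : 1 < Nat.card k := Finite.one_lt_card
  obtain ⟨e, he⟩ : ∃ e, Nat.card k = p ^ e := by
    let _ := Fintype.ofFinite k
    obtain ⟨n, _, hn⟩ := FiniteField.card k p
    exact ⟨n, by rw [Nat.card_eq_fintype_card, hn]⟩
  -- the equality for all large degrees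
  obtain ⟨m0, hm0⟩ : ∃ m0 : ℕ, ∀ m, m0 ≤ m → C / Real.sqrt ((Nat.card k : ℝ) ^ m) < 1 / 2 := by
    have h1 : Filter.Tendsto (fun m : ℕ => C / Real.sqrt ((Nat.card k : ℝ) ^ m)) Filter.atTop (nhds 0) := by
      refine Filter.Tendsto.const_div_atTop ?_ C
      refine Real.tendsto_sqrt_atTop.comp ?_
      exact tendsto_pow_atTop_atTop_of_one_lt (by exact_mod_cast hq1)
    have h2 := h1.eventually (gt_mem_nhds (show (0 : ℝ) < 1 / 2 by norm_num))
    exact Filter.eventually_atTop.mp h2
  have hlarge : ∀ (m : ℕ) (hm : 1 ≤ m), m0 ≤ m → Nat.card (A →ₐ[k] F m hm) = (Nat.card k ^ d) ^ m := by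
    intro m hm hmm
    obtain ⟨n, hn⟩ := hcount m hm
    have h1 := hLW (F m hm) (algebraMap k (F m hm)) (by simpa using hh)
    rw [N_eq, hn] at h1
    have h2 : ((Nat.card (F m hm) : ℕ) : ℝ) ^ d = ((p ^ (e * m * d) : ℕ) : ℝ) := by
      rw [hcard m hm, he]
      push_cast
      ring
    have h3 : p ^ n = p ^ (e * m * d) := by
      refine pow_eq_of_close hp.two_le n (e * m * d) (C / Real.sqrt ((Nat.card k : ℝ) ^ m)) (hm0 m hmm) ?_
      rw [← h2]
      refine h1.trans (le_of_eq ?_)
      rw [hcard m hm]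
      push_cast
      ring
    rw [hn, h3, he]
    ring
  have hfin := powsum_eq α β ((Nat.card k : ℂ) ^ d) (m0 + 1) (fun m hm => by
    have hm1 : 1 ≤ m := by omega
    have h1 := hS (F m hm1)
    rw [hdeg m hm1, pointCount_Spec, hlarge m hm1 (by omega)] at h1
    rw [← h1]
    push_cast
    rfl) 1 le_rfl
  have h1 := hS (F 1 le_rfl)
  rw [hdeg 1 le_rfl, hfin, pointCount_Spec, card_homs_eq (kb := kb) A (F 1 le_rfl), hcard 1 le_rfl] at h1
  simp only [pow_one] at h1
  exact_mod_cast h1

end K869.CountFix
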