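import Groth.Agent.StackCount.K869.CountFix
import Groth.Agent.Synt.K562.Rel1

/-!
# Descent along Frobenius, at the level of rings

`A` a reduced algebra over an algebraic closure `kb` of the finite field `k`, `A₀` a `k`-subalgebra spanning `A` over
`kb`, and `Φ` a `kb`-endomorphism of `A` which is the `q`-Frobenius on `A₀`: then `kb ⊗[k] A₀ = A`.
-/

set_option autoImplicit false
set_option linter.unusedSectionVars false
universe u v

open scoped TensorProduct

namespace K869.Desc

open K869.ExpPow K869.CountFix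

variable {k : Type u} [Field k] [Finite k] {kb : Type u} [Field kb] [Algebra k kb] [IsAlgClosed kb]
  {A : Type u} [CommRing A] [Algebra kb A] [Algebra k A] [IsScalarTower k kb A]

theorem mem_range_of_pow {x : kb} (hx : x ^ Nat.card k = x) : ∃ c : k, algebraMap k kb c = x := by
  classical
  let _ := Fintype.ofFinite k
  let P : Polynomial kb := Polynomial.X ^ Nat.card k - Polynomial.X
  have hq : 1 < Nat.card k := Finite.one_lt_card
  have hP : P ≠ 0 := FiniteField.X_pow_card_sub_X_ne_zero kb hq
  have hdeg : P.natDegree = Nat.card k := FiniteField.X_pow_card_sub_X_natDegree_eq kb hq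
  have hi : Function.Injective (algebraMap k kb) := (algebraMap k kb).injective
  have hroots : ∀ y : k, algebraMap k kb y ∈ P.roots := by
    intro y
    rw [Polynomial.mem_roots hP, Polynomial.IsRoot.def]
    simp only [P, Polynomial.eval_sub, Polynomial.eval_pow, Polynomial.eval_X]
    rw [← map_pow, Nat.card_eq_fintype_card, FiniteField.pow_card, sub_self]
  have hsub : Finset.univ.image (algebraMap k kb) ⊆ P.roots.toFinset := by
    intro z hz
    obtain ⟨y, _, rfl⟩ := Finset.mem_image.mp hz
    exact Multiset.mem_toFinset.mpr (hroots y)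
  have hcard : P.roots.toFinset.card ≤ (Finset.univ.image (algebraMap k kb)).card := by
    rw [Finset.card_image_of_injective _ hi, Finset.card_univ, ← Nat.card_eq_fintype_card, ← hdeg]
    exact (Multiset.toFinset_card_le _).trans (Polynomial.card_roots' P)
  have heq := Finset.eq_of_subset_of_card_le hsub hcard
  have hx' : x ∈ P.roots.toFinset := by
    rw [Multiset.mem_toFinset, Polynomial.mem_roots hP, Polynomial.IsRoot.def]
    simp only [P, Polynomial.eval_sub, Polynomial.eval_pow, Polynomial.eval_X]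
    rw [hx, sub_self]
  rw [← heq] at hx'
  obtain ⟨y, _, rfl⟩ := Finset.mem_image.mp hx'
  exact ⟨y, rfl⟩

/-- The `q`-power map is additive in a `k`-algebra. -/
theorem pow_card_sum {ι : Type*} (s : Finset ι) {B : Type*} [CommRing B] [Algebra k B] (f : ι → B) :
    (∑ i ∈ s, f i) ^ Nat.card k = ∑ i ∈ s, f i ^ Nat.card k := by
  obtain ⟨p, n, hp, hc, hn, hq⟩ : ∃ p n : ℕ, ∃ _ : Fact p.Prime, CharP k p ∧ n ≠ 0 ∧ Nat.card k = p ^ n := by
    cases nonempty_fintype k
    obtain ⟨p, hp⟩ := CharP.exists k
    obtain ⟨n, hn1, hn2⟩ := FiniteField.card k p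
    exact ⟨p, n, ⟨hn1⟩, hp, n.2.ne', by rw [Nat.card_eq_fintype_card, hn2]⟩
  rcases subsingleton_or_nontrivial B with hB | hB
  · exact Subsingleton.elim _ _
  have : CharP B p := charP_of_injective_algebraMap (algebraMap k B).injective p
  have : ExpChar B p := ExpChar.prime hp.out
  rw [hq, sum_pow_char_pow]

theorem lc_eq {R M ι : Type*} [CommRing R] [AddCommGroup M] [Module R M] (v : ι → M) (l : ι →₀ R) (s : Finset ι)
    (h : l.support ⊆ s) : Finsupp.linearCombination R v l = ∑ i ∈ s, l i • v i := by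
  rw [Finsupp.linearCombination_apply]
  exact Finsupp.sum_of_support_subset l h _ (fun i _ => zero_smul _ _)

theorem linInd [IsReduced A] (A0 : Subalgebra k A) (Φ : A →ₐ[kb] A) (hΦ : ∀ a ∈ A0, Φ a = a ^ Nat.card k)
    {ι : Type*} (v : ι → A) (hv : ∀ i, v i ∈ A0) (hli : LinearIndependent k v) : LinearIndependent kb v := by
  classical
  have hq0 : Nat.card k ≠ 0 := Nat.card_pos.ne'
  choose r hr using fun x : kb => IsAlgClosed.exists_pow_nat_eq x (Nat.card_pos (α := k))
  have hr0 : r 0 = 0 := by
    have := hr 0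
    exact pow_eq_zero_iff hq0 |>.mp this
  have hr1 : r 1 = 1 := by
    have h1 : (r 1 - 1) ^ Nat.card k = 0 := by
      have h2 := pow_card_sum (k := k) (Finset.univ : Finset (Fin 2)) ![r 1 - 1, (1 : kb)]
      simp only [Fin.sum_univ_two, Matrix.cons_val_zero, Matrix.cons_val_one, sub_add_cancel, hr, one_pow] at h2
      linear_combination -h2
    exact sub_eq_zero.mp (pow_eq_zero_iff hq0 |>.mp h1)
  rw [linearIndependent_iff]
  suffices H : ∀ n : ℕ, ∀ l : ι →₀ kb, l.support.card ≤ n → Finsupp.linearCombination kb v l = 0 → l = 0 from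
    fun l hl => H _ l le_rfl hl
  intro n
  induction n with
  | zero =>
    intro l hl _
    exact Finsupp.support_eq_empty.mp (Finset.card_eq_zero.mp (Nat.le_zero.mp hl))
  | succ n ih =>
    intro l hl h0
    by_contra hne
    obtain ⟨i0, hi0⟩ : ∃ i, l i ≠ 0 := by
      by_contra h
      push Not at h
      exact hne (Finsupp.ext h)
    -- normalise
    let l1 : ι →₀ kb := (l i0)⁻¹ • l
    have hl1 : Finsupp.linearCombination kb v l1 = 0 := by
      rw [map_smul, h0, smul_zero]
    have hl1i : l1 i0 = 1 := by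
      simp only [l1, Finsupp.smul_apply, smul_eq_mul]
      exact inv_mul_cancel₀ hi0
    have hsupp : l1.support = l.support := by
      apply Finsupp.support_smul_eq
      exact inv_ne_zero hi0
    let l2 : ι →₀ kb := l1.mapRange r hr0
    have hl2 : Finsupp.linearCombination kb v l2 = 0 := by
      have h1 := congrArg Φ hl1
      rw [map_zero, lc_eq v l1 l1.support (Finset.Subset.refl _), map_sum] at h1
      have h2 : (Finsupp.linearCombination kb v l2) ^ Nat.card k = 0 := by
        rw [lc_eq v l2 l1.support Finsupp.support_mapRange, pow_card_sum (k := k), ← h1]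
        refine Finset.sum_congr rfl fun i _ => ?_
        rw [map_smul, hΦ _ (hv i), smul_pow]
        congr 1
        exact hr (l1 i)
      exact pow_eq_zero_iff hq0 |>.mp h2
    have h3 : l1 - l2 = 0 := by
      refine ih _ ?_ (by rw [map_sub, hl1, hl2, sub_zero])
      have hsub : (l1 - l2).support ⊆ l1.support.erase i0 := by
        intro i hi
        rw [Finsupp.mem_support_iff, Finsupp.sub_apply, Finsupp.mapRange_apply] at hi
        rw [Finset.mem_erase, Finsupp.mem_support_iff]
        constructor
        · rintro rfl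
          rw [hl1i, hr1, sub_self] at hi
          exact hi rfl
        · intro h
          rw [h, hr0, sub_self] at hi
          exact hi rfl
      have h4 : i0 ∈ l1.support := by
        rw [Finsupp.mem_support_iff, hl1i]
        exact one_ne_zero
      have h5 := Finset.card_le_card hsub
      rw [Finset.card_erase_of_mem h4, hsupp] at h5
      omega
    have h4 : ∀ i, l1 i ^ Nat.card k = l1 i := by
      intro i
      have h5 : l1 i = r (l1 i) := by
        have := DFunLike.congr_fun h3 i
        rw [Finsupp.sub_apply, Finsupp.mapRange_apply, Finsupp.zero_apply] at this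
        exact sub_eq_zero.mp this
      conv_lhs => rw [h5]
      exact hr (l1 i)
    choose c hc using fun i => mem_range_of_pow (k := k) (h4 i)
    have hc0 : ∀ i, l1 i = 0 → c i = 0 := fun i hi => (algebraMap k kb).injective (by rw [hc, hi, map_zero])
    let m : ι →₀ k := Finsupp.onFinset l1.support c (fun i hi => by
      rw [Finsupp.mem_support_iff]
      exact fun h => hi (hc0 i h))
    have hm : Finsupp.linearCombination k v m = 0 := by
      rw [lc_eq v m l1.support Finsupp.support_onFinset_subset]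
      rw [lc_eq v l1 l1.support (Finset.Subset.refl _)] at hl1
      refine Eq.trans (Finset.sum_congr rfl fun i _ => ?_) hl1
      rw [← hc i, algebraMap_smul]
      rfl
    have h5 := linearIndependent_iff.mp hli m hm
    have h6 : c i0 = 0 := DFunLike.congr_fun h5 i0
    have h7 := hc i0
    rw [h6, map_zero, hl1i] at h7
    exact zero_ne_one h7

/-- The multiplication map. -/
noncomputable def mulMap (A0 : Subalgebra k A) : kb ⊗[k] A0 →ₐ[kb] A :=
  Algebra.TensorProduct.lift (Algebra.ofId kb A) A0.val (fun _ _ => Commute.all _ _)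

theorem mulMap_tmul (A0 : Subalgebra k A) (c : kb) (a : A0) : mulMap (kb := kb) A0 (c ⊗ₜ a) = c • (a : A) := by
  rw [mulMap, Algebra.TensorProduct.lift_tmul, Algebra.smul_def]
  rfl

theorem mulMap_bijective [IsReduced A] (A0 : Subalgebra k A) (hspan : Submodule.span kb (A0 : Set A) = ⊤)
    (Φ : A →ₐ[kb] A) (hΦ : ∀ a ∈ A0, Φ a = a ^ Nat.card k) : Function.Bijective (mulMap (kb := kb) A0) := by
  constructor
  · let b := Module.Free.chooseBasis k A0
    let B := Algebra.TensorProduct.basis kb b
    have hli : LinearIndependent kb (fun i => ((b i : A0) : A)) := by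
      refine linInd A0 Φ hΦ _ (fun i => (b i).2) ?_
      exact b.linearIndependent.map' A0.val.toLinearMap (LinearMap.ker_eq_bot.mpr Subtype.val_injective)
    have hB : ∀ i, mulMap (kb := kb) A0 (B i) = ((b i : A0) : A) := by
      intro i
      rw [Algebra.TensorProduct.basis_apply, mulMap_tmul, one_smul]
    rw [injective_iff_map_eq_zero]
    intro x hx
    have h1 : Finsupp.linearCombination kb (fun i => ((b i : A0) : A)) (B.repr x) = 0 := by
      rw [← hx]
      conv_rhs => rw [← B.linearCombination_repr x]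
      rw [Finsupp.linearCombination_apply, Finsupp.linearCombination_apply, Finsupp.sum, Finsupp.sum, map_sum]
      refine Finset.sum_congr rfl fun i _ => ?_
      rw [map_smul, hB]
    have h2 := linearIndependent_iff.mp hli _ h1
    exact B.repr.injective (by rw [h2, map_zero])
  · have h1 : LinearMap.range (mulMap (kb := kb) A0).toLinearMap = ⊤ := by
      rw [eq_top_iff, ← hspan, Submodule.span_le]
      intro a ha
      exact ⟨1 ⊗ₜ ⟨a, ha⟩, (mulMap_tmul A0 1 ⟨a, ha⟩).trans (one_smul _ _)⟩
    exact LinearMap.range_eq_top.mp h1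

theorem iterate_pow (A0 : Subalgebra k A) (Φ : A →ₐ[kb] A) (hΦ : ∀ a ∈ A0, Φ a = a ^ Nat.card k) (m : ℕ)
    (a : A) (ha : a ∈ A0) : (Φ ^ m) a = a ^ (Nat.card k ^ m) := by
  induction m with
  | zero => simp
  | succ m ih =>
    rw [pow_succ', AlgHom.mul_apply, ih, map_pow, hΦ a ha, ← pow_mul, ← pow_succ']

theorem hom_ext_of_span {A0 : Subalgebra k A} (hspan : Submodule.span kb (A0 : Set A) = ⊤) {C : Type*} [CommRing C]
    [Algebra kb C] {χ χ' : A →ₐ[kb] C} (h : ∀ a ∈ A0, χ a = χ' a) : χ = χ' := by
  have h1 : χ.toLinearMap = χ'.toLinearMap := LinearMap.ext_on hspan (fun a ha => h a ha)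
  exact AlgHom.toLinearMap_injective h1

/-- **Point count at ring level.** -/
theorem card_eq [IsDomain A] (A0 : Subalgebra k A) (hA0 : A0.FG) (hspan : Submodule.span kb (A0 : Set A) = ⊤)
    (Φ : A →ₐ[kb] A) (hΦ : ∀ a ∈ A0, Φ a = a ^ Nat.card k) (d : ℕ) (hd : ringKrullDim A = d) {p : ℕ} (hp : p.Prime)
    [CharP k p] (H : ∀ m, 1 ≤ m → Finite {χ : A →ₐ[kb] kb // χ.comp (Φ ^ m) = χ} →
      ∃ n, Nat.card {χ : A →ₐ[kb] kb // χ.comp (Φ ^ m) = χ} = p ^ n) :
    Nat.card {χ : A →ₐ[kb] kb // χ.comp Φ = χ} = Nat.card k ^ d := by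
  have hbij := mulMap_bijective A0 hspan Φ hΦ
  let e : kb ⊗[k] A0 ≃ₐ[kb] A := AlgEquiv.ofBijective (mulMap A0) hbij
  have hdom : IsDomain (kb ⊗[k] A0) := e.toMulEquiv.isDomain _
  have hft : Algebra.FiniteType k A0 := Subalgebra.fg_iff_finiteType A0 |>.mp hA0
  have hd0 : ringKrullDim A0 = d := by
    rw [← K562.Rel.ringKrullDim_tensor k kb A0, ringKrullDim_eq_of_ringEquiv e.toRingEquiv, hd]
  have key' : ∀ m, Nonempty ({χ : A →ₐ[kb] kb // χ.comp (Φ ^ m) = χ} ≃
      {χ : A0 →ₐ[k] kb // ∀ a, χ a ^ (Nat.card k ^ m) = χ a}) := by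
    intro m
    refine ⟨Equiv.ofBijective (fun χ => ⟨(χ.1.restrictScalars k).comp A0.val, fun a => ?_⟩) ⟨?_, ?_⟩⟩
    · change χ.1 (a : A) ^ _ = χ.1 (a : A)
      rw [← map_pow, ← iterate_pow A0 Φ hΦ m _ a.2]
      exact DFunLike.congr_fun χ.2 (a : A)
    · intro χ χ' h
      apply Subtype.ext
      refine hom_ext_of_span hspan fun a ha => ?_
      exact DFunLike.congr_fun (congrArg Subtype.val h) (⟨a, ha⟩ : A0)
    · rintro ⟨ψ, hψ⟩
      let χ : A →ₐ[kb] kb := (Algebra.TensorProduct.lift (AlgHom.id kb kb) ψ (fun _ _ => Commute.all _ _)).comp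
        e.symm.toAlgHom
      have hχ : ∀ a : A0, χ (a : A) = ψ a := by
        intro a
        have h1 : e.symm (a : A) = 1 ⊗ₜ a := by
          rw [AlgEquiv.symm_apply_eq]
          exact ((mulMap_tmul A0 1 a).trans (one_smul _ _)).symm
        change (Algebra.TensorProduct.lift (AlgHom.id kb kb) ψ (fun _ _ => Commute.all _ _)) (e.symm (a : A)) = ψ a
        rw [h1, Algebra.TensorProduct.lift_tmul, map_one, one_mul]
      refine ⟨⟨χ, hom_ext_of_span hspan fun a ha => ?_⟩, ?_⟩
      · change χ ((Φ ^ m) a) = χ a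
        rw [iterate_pow A0 Φ hΦ m a ha, map_pow, hχ ⟨a, ha⟩]
        exact hψ _
      · apply Subtype.ext
        ext a
        exact hχ a
  have key : ∀ m, Nat.card {χ : A →ₐ[kb] kb // χ.comp (Φ ^ m) = χ} =
      Nat.card {χ : A0 →ₐ[k] kb // ∀ a, χ a ^ (Nat.card k ^ m) = χ a} := fun m => Nat.card_congr (key' m).some
  have h1 := card_fix (kb := kb) A0 d hd0 hp (fun m hm hf => by
    rw [← key]
    exact H m hm (Finite.of_equiv _ (key' m).some.symm))
  have h2 := key 1
  rw [pow_one, pow_one] at h2
  rw [h2, h1]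

end K869.Desc
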