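import Groth.Agent.StackCount.K815.TwLang
import Groth.Agent.HopfRep.K191.GLEmb
import Groth.Agent.ComodTens.K888.GLFacts
import Groth.Agent.AGF.K498.Epi
import Groth.Agent.Sga3B.RG.BrHc
import Groth.Agent.Books.AffBridge2

/-!
# Untwisting a Frobenius structure inside a general linear group
-/

set_option autoImplicit false
set_option linter.unusedSectionVars false
universe u
open CategoryTheory Limits MonoidalCategory CartesianMonoidalCategory MonObj GrpObj AlgebraicGeometry

namespace K869.Emb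

open Groth.Agent Groth.Agent.Books.AffBridge Groth.Agent.Books.AffBridge2
open K815.Frob K815.PtsBC K815.TwLang GalTw HopfRep

section glsec

variable (k : Type u) [Field k] (n : ℕ)

theorem isDomain_GLn : IsDomain (CoordGrp.GLn n k) := by
  have nt : Nontrivial (CoordGrp.GLn n k) := (K888.GLFacts.τ_injective (n := n) (k := k)).nontrivial
  have hu : ∀ N : ℕ, IsUnit ((CoordGrp.GLn.det : CoordGrp.GLn n k) ^ N) := fun N =>
    (IsUnit.of_mul_eq_one _ CoordGrp.GLn.det_mul_Dinv).pow N
  have nzd : NoZeroDivisors (CoordGrp.GLn n k) := by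
    refine ⟨fun {g h} hgh => ?_⟩
    obtain ⟨N, p, hp⟩ := K888.GLFacts.exists_det_pow g
    obtain ⟨M, q, hq⟩ := K888.GLFacts.exists_det_pow h
    have h1 : K888.GLFacts.τ n k (p * q) = 0 := by
      rw [map_mul, ← hp, ← hq]
      calc _ = CoordGrp.GLn.det ^ N * CoordGrp.GLn.det ^ M * (g * h) := by ring
        _ = 0 := by rw [hgh, mul_zero]
    have h2 : p * q = 0 := K888.GLFacts.τ_injective (by rw [h1, map_zero])
    rcases mul_eq_zero.mp h2 with h3 | h3
    · left
      rw [h3, map_zero] at hp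
      exact (hu N).mul_right_eq_zero.mp hp
    · right
      rw [h3, map_zero] at hq
      exact (hu M).mul_right_eq_zero.mp hq
  exact NoZeroDivisors.to_isDomain _

end glsec

section emb

variable {k : Type u} [Field k]

/-- An affine algebraic group embeds in the general linear group. -/
theorem exists_emb (B : Over (Spec (CommRingCat.of k))) [GrpObj B] [IsAffineHom B.hom] [LocallyOfFiniteType B.hom] :
    ∃ (R : Type u) (_ : CommRing R) (_ : HopfAlgebra k R) (w : B ⟶ SpecOver k R), IsMonHom w ∧ Mono w ∧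
      Algebra.FiniteType k R ∧ Smooth (SpecOver k R).hom ∧ ConnectedSpace (SpecOver k R).left := by
  have hB : IsAffine B.left := isAffine_of_isAffineHom B.hom
  obtain ⟨A, _, _, e, he, hft⟩ := Sga3B.RG.BrHc.exists_hopf_ft B
  obtain ⟨n, π, hπ⟩ := K191.GLEmb.exists_surjective (k := k) (A := A)
  have h1 := isMonHom_specMap k π
  have hdom := isDomain_GLn k n
  have hsm := K498.Epi.smooth_GLn k n
  refine ⟨CoordGrp.GLn n k, inferInstance, inferInstance, e.hom ≫ specMap k (π : CoordGrp.GLn n k →ₐ[k] A),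
    inferInstance, ?_, inferInstance, (smooth_specOver_iff k _).2 hsm, ?_⟩
  · have h2 : Mono (specMap k (π : CoordGrp.GLn n k →ₐ[k] A)) := by
      have h3 : IsClosedImmersion (specMap k (π : CoordGrp.GLn n k →ₐ[k] A)).left := by
        rw [specMap_left]
        exact IsClosedImmersion.spec_of_surjective _ hπ
      exact Over.mono_of_mono_left _
    exact mono_comp _ _
  · exact inferInstanceAs (ConnectedSpace (PrimeSpectrum (CoordGrp.GLn n k)))

end emb

section inn

variable {k : Type u} [Field k] {K : Type u} [Field K] [Algebra k K]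
variable {B H : Over (Spec (CommRingCat.of k))} [GrpObj B] [GrpObj H]

theorem comp_innK {T : Over (Spec (CommRingCat.of K))} (z : T ⟶ bcK K B) (b : SGA7.Pts K B) :
    z ≫ innK K b = (toUnit T ≫ secOfPt K b) * z * (toUnit T ≫ secOfPt K b)⁻¹ := by
  rw [innK, AGF.conjBy, MonObj.comp_mul, MonObj.comp_mul, GrpObj.comp_inv, Category.comp_id, ← Category.assoc,
    comp_toUnit]

theorem innK_comp_innK (g h : SGA7.Pts K B) : innK K g ≫ innK K h = innK K (h * g) := by
  rw [comp_innK, ← Category.id_comp (innK K g), comp_innK, ← Category.id_comp (innK K (h * g)), comp_innK, sec_mul,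
    MonObj.comp_mul]
  group

theorem innK_one : innK K (1 : SGA7.Pts K B) = 𝟙 (bcK K B) := by
  rw [← Category.id_comp (innK K (1 : SGA7.Pts K B)), comp_innK, sec_one, MonObj.comp_one]
  group

theorem innK_comp_map (g : SGA7.Pts K B) (f : bcK K B ⟶ bcK K H) [IsMonHom f] (g' : SGA7.Pts K H)
    (hg : secOfPt K g ≫ f = secOfPt K g') : innK K g ≫ f = f ≫ innK K g' := by
  rw [comp_innK, ← Category.id_comp (innK K g), comp_innK, MonObj.mul_comp, MonObj.mul_comp, GrpObj.inv_comp,
    Category.assoc, hg, Category.id_comp]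

instance (g : SGA7.Pts K B) : IsIso (innK K g) :=
  ⟨innK K g⁻¹, by rw [innK_comp_innK, inv_mul_cancel, innK_one], by
    rw [innK_comp_innK, mul_inv_cancel, innK_one]⟩

end inn

section untwist

variable {k : Type u} [Field k] [Finite k] {kb : Type u} [Field kb] [Algebra k kb] [IsAlgClosed kb]

theorem untwist (B H : Over (Spec (CommRingCat.of k))) [GrpObj B] [GrpObj H] (w : B ⟶ H) [IsMonHom w] [Mono w]
    [Smooth H.hom] [ConnectedSpace H.left] (N : Over (Spec (CommRingCat.of kb))) [GrpObj N]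
    (j : N ⟶ bcK kb B) [IsMonHom j] [Mono j] (b : SGA7.Pts kb B) (F : N ⟶ N)
    (hF : F ≫ j = j ≫ FrK kb B ≫ innK kb b) :
    ∃ j' : N ⟶ bcK kb H, IsMonHom j' ∧ Mono j' ∧ F ≫ j' = j' ≫ FrK kb H := by
  have hsm : Smooth (bcK kb H).hom := by
    change Smooth (pullback.snd _ _)
    infer_instance
  have hcon : ConnectedSpace (bcK kb H).left := connectedSpace_bcK H
  obtain ⟨c', hc'⟩ := K815.Lang.exists_pt (FrK kb H) (infKill_FrK H) (secOfPt kb (b ≫ w))
  obtain ⟨c, rfl⟩ : ∃ c : SGA7.Pts kb H, secOfPt kb c = c' := ⟨ofSec c', sec_ofSec c'⟩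
  let w' : bcK kb B ⟶ bcK kb H := (Over.pullback (SGA7.pt (K := k) kb).hom).map w
  have hw' : IsMonHom w' := inferInstanceAs (IsMonHom ((Over.pullback (SGA7.pt (K := k) kb).hom).map w))
  have hmw' : Mono w' := inferInstanceAs (Mono ((Over.pullback (SGA7.pt (K := k) kb).hom).map w))
  have h1 : FrK kb B ≫ w' = w' ≫ FrK kb H := by
    simp only [FrK, w']
    rw [← Functor.map_comp, ← Functor.map_comp, comp_Fr]
  have h2 : innK kb b ≫ w' = w' ≫ innK kb (b ≫ w) := innK_comp_map b w' _ (sec_comp b w)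
  have h3 : innK kb c⁻¹ ≫ FrK kb H = FrK kb H ≫ innK kb (c⁻¹ ≫ Fr H) :=
    innK_comp_map c⁻¹ (FrK kb H) _ (sec_comp c⁻¹ (Fr H))
  have h4 : c⁻¹ * (b ≫ w) = c⁻¹ ≫ Fr H := by
    apply sec_injective
    have h5 : c⁻¹ ≫ Fr H = (c ≫ Fr H)⁻¹ := GrpObj.inv_comp _ _
    rw [h5, sec_mul, ← hc', sec_inv, sec_inv, sec_comp]
    group
  refine ⟨j ≫ w' ≫ innK kb c⁻¹, inferInstance, ?_, ?_⟩
  · have : Mono (w' ≫ innK kb c⁻¹) := mono_comp _ _
    exact mono_comp _ _
  · rw [reassoc_of% hF, reassoc_of% h2, reassoc_of% h1, innK_comp_innK, h4, Category.assoc, Category.assoc, h3]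

end untwist

end K869.Emb
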