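import Groth.Agent.StackCount.K869.Pairs

/-!
# Masses of groupoids of pairs, II: finiteness, and groups with a large subgroup acting trivially
-/

set_option autoImplicit false
universe u v w z u' v' w'
open CategoryTheory

namespace K869.PairsTriv

open K815.Mass K869.Pairs

variable {Γ : Type w} {Ω : Type z} [Group Γ] [MulAction Γ Ω] {C : Type u} [Category.{v} C] {φ : Γ →* Γ} {ψ : Ω → Ω}
  (D : Dict C φ ψ)

include D in
/-- Finitely many isomorphism classes. -/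
theorem finite_isoCl (hψ : ∀ (g : Γ) (x : Ω), ψ (g • x) = φ g • ψ x)
    (K : Subgroup Γ) [K.Normal] [Finite (Γ ⧸ K)]
    (lang : ∀ b : Γ, ∀ n ∈ K, ∃ m ∈ K, m * (b * φ m * b⁻¹)⁻¹ = n)
    (sec : Γ ⧸ K → Γ) (hsec : ∀ y, (QuotientGroup.mk (sec y) : Γ ⧸ K) = y)
    [∀ y, Finite {x : Ω // sec y • ψ x = x}] : Finite (StkCnt.IsoCl C) := by
  classical
  choose ob hob using fun y : (Σ y : Γ ⧸ K, {x : Ω // sec y • ψ x = x}) => D.exists_obj (sec y.1, y.2.1) y.2.2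
  refine Finite.of_surjective (fun y => StkCnt.IsoCl.mk (ob y)) fun c => ?_
  obtain ⟨A, rfl⟩ := Quotient.exists_rep c
  let b : Γ := (D.pr A).1
  let y : Γ ⧸ K := QuotientGroup.mk b
  have h1 : (sec y)⁻¹ * b ∈ K := QuotientGroup.eq.mp (hsec y)
  have h2 : b * (sec y)⁻¹ ∈ K := by
    have := Subgroup.Normal.conj_mem ‹K.Normal› _ h1 (sec y)
    have h3 : sec y * ((sec y)⁻¹ * b) * (sec y)⁻¹ = b * (sec y)⁻¹ := by group
    rwa [h3] at this
  obtain ⟨m, _, hm⟩ := lang (sec y) _ h2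
  have h3 : sec y * φ m⁻¹ = m⁻¹ * b := by
    have h4 : b = m * sec y * (φ m)⁻¹ := by
      have : b = (b * (sec y)⁻¹) * sec y := by group
      rw [this, ← hm]
      group
    rw [h4, map_inv]
    group
  have hx : sec y • ψ (m⁻¹ • (D.pr A).2) = m⁻¹ • (D.pr A).2 := by
    rw [hψ, ← mul_smul, h3, mul_smul, D.fix]
  refine ⟨⟨y, m⁻¹ • (D.pr A).2, hx⟩, ?_⟩
  change StkCnt.IsoCl.mk _ = StkCnt.IsoCl.mk A
  rw [D.mk_eq_iff]
  exact (hob ⟨y, m⁻¹ • (D.pr A).2, hx⟩).symm.trans ⟨m⁻¹, h3, rfl⟩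

include D in
/-- **The mass, for a normal subgroup of finite index acting trivially.** -/
theorem sum_triv (hψ : ∀ (g : Γ) (x : Ω), ψ (g • x) = φ g • ψ x)
    (K : Subgroup Γ) [K.Normal] [Finite (Γ ⧸ K)] (hK : ∀ n ∈ K, φ n ∈ K)
    (lang : ∀ b : Γ, ∀ n ∈ K, ∃ m ∈ K, m * (b * φ m * b⁻¹)⁻¹ = n)
    (Q : ℕ) (hQ0 : Q ≠ 0) (hQ : ∀ b : Γ, Nat.card {m : Γ // m ∈ K ∧ b * φ m * b⁻¹ = m} = Q)
    (htriv : ∀ n ∈ K, ∀ x : Ω, n • x = x) [Fintype (StkCnt.IsoCl C)]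
    {J : Type w'} [Fintype J] (x : J → Ω) (hfix : ∀ j, ∃ g0 : Γ, g0 • ψ (x j) = x j)
    (hdis : ∀ (j j' : J) (g : Γ), g • x j = x j' → j = j')
    (hex : ∀ A : C, ∃ (j : J) (g : Γ), g • x j = (D.pr A).2) :
    ∑ c : StkCnt.IsoCl C, ((StkCnt.autCard C c : ℕ) : ℚ)⁻¹ = (Fintype.card J : ℚ) / (Q : ℚ) := by
  classical
  choose jj gg hgg using hex
  let F : StkCnt.IsoCl C → J := fun c => jj c.out
  have hF : ∀ (A : C) (j : J), F (StkCnt.IsoCl.mk A) = j ↔ ∃ g : Γ, g • x j = (D.pr A).2 := by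
    intro A j
    have h1 : StkCnt.IsoCl.mk (Quotient.out (StkCnt.IsoCl.mk A)) = StkCnt.IsoCl.mk A := Quotient.out_eq _
    rw [D.mk_eq_iff] at h1
    obtain ⟨b, -, hb⟩ := h1
    constructor
    · rintro rfl
      refine ⟨b⁻¹ * gg (Quotient.out (StkCnt.IsoCl.mk A)), ?_⟩
      change _ • (x (jj (Quotient.out (StkCnt.IsoCl.mk A)))) = _
      rw [mul_smul, hgg, inv_smul_eq_iff, hb]
    · rintro ⟨g, hg⟩
      refine hdis _ _ (g⁻¹ * b⁻¹ * gg (Quotient.out (StkCnt.IsoCl.mk A))) ?_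
      rw [mul_smul, mul_smul, hgg, inv_smul_eq_iff, inv_smul_eq_iff, hg, hb]
  rw [← Finset.sum_fiberwise Finset.univ F]
  have key : ∀ j : J, ∑ c ∈ Finset.univ with F c = j, ((StkCnt.autCard C c : ℕ) : ℚ)⁻¹ = ((Q : ℕ) : ℚ)⁻¹ := by
    intro j
    obtain ⟨g0, hg0⟩ := hfix j
    let st : Subgroup Γ := MulAction.stabilizer Γ (x j)
    let N : Subgroup st := K.subgroupOf st
    have hmemN : ∀ m : st, m ∈ N ↔ m.1 ∈ K := fun m => Iff.rfl
    have hNn : N.Normal := inferInstanceAs (K.subgroupOf st).Normal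
    have hKst : ∀ n ∈ K, n ∈ st := fun n hn => htriv n hn (x j)
    have hfi : Finite (st ⧸ N) := by
      refine Finite.of_injective (fun y : st ⧸ N => (QuotientGroup.mk (y.out).1 : Γ ⧸ K)) fun y y' h => ?_
      have h1 : (QuotientGroup.mk (y.out).1 : Γ ⧸ K) = QuotientGroup.mk (y'.out).1 := h
      have h2 := QuotientGroup.eq.mp h1
      rw [← Quotient.out_eq y, ← Quotient.out_eq y']
      exact QuotientGroup.eq.mpr h2
    have hconj : ∀ (b : Γ) (n : Γ), n ∈ K → b * φ n * b⁻¹ ∈ K := fun b n hn =>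
      Subgroup.Normal.conj_mem ‹K.Normal› _ (hK n hn) b
    refine K869.Pairs.sum_orbit D hψ (x j) g0 hg0 N (fun n hn => hconj g0 n.1 hn) (fun b n hn => ?_) Q hQ0
      (fun b => ?_) _ (fun A => ?_)
    · obtain ⟨m, hm, hmm⟩ := lang (b.1 * g0) n.1 hn
      refine ⟨⟨m, hKst m hm⟩, hm, Subtype.ext ?_⟩
      change m * (b.1 * (g0 * φ m * g0⁻¹) * b.1⁻¹)⁻¹ = n.1
      rw [← hmm]
      group
    · rw [← hQ (b.1 * g0)]
      refine Nat.card_congr
        { toFun := fun m => ⟨m.1.1, m.2.1, ?_⟩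
          invFun := fun m => ⟨⟨m.1, hKst m.1 m.2.1⟩, m.2.1, Subtype.ext ?_⟩
          left_inv := fun m => rfl
          right_inv := fun m => rfl }
      · have h1 : b.1 * (g0 * φ m.1.1 * g0⁻¹) * b.1⁻¹ = m.1.1 := congrArg Subtype.val m.2.2
        conv_rhs => rw [← h1]
        group
      · change b.1 * (g0 * φ m.1 * g0⁻¹) * b.1⁻¹ = m.1
        have h1 := m.2.2
        conv_rhs => rw [← h1]
        group
    · rw [Finset.mem_filter]
      simp only [Finset.mem_univ, true_and]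
      exact hF A j
  simp only [key]
  rw [Finset.sum_const, Finset.card_univ, nsmul_eq_mul, div_eq_mul_inv]

end K869.PairsTriv
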