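import Groth.Agent.StackCount.K869.Stab
import Groth.Agent.StackCount.K869.PairsTriv
import Mathlib.AlgebraicGeometry.AlgClosed.Basic
import Mathlib.AlgebraicGeometry.Morphisms.QuasiFinite
import Mathlib.AlgebraicGeometry.Artinian

/-!
# The identity component of an affine algebraic group on geometric points
-/

set_option autoImplicit false
set_option linter.unusedSectionVars false
universe u
open CategoryTheory Limits MonoidalCategory CartesianMonoidalCategory MonObj GrpObj AlgebraicGeometry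

namespace K869.FinAct

open K815.Frob K815.PtsBC K815.TwLang K815.Tors GalTw K869.PtSub Groth.Agent.Sga3B.BcPts K869.Stab

theorem discrete_of_isFinite {K : Type u} [Field K] {W : Scheme.{u}} (c : W ⟶ Spec (CommRingCat.of K)) [IsFinite c] :
    DiscreteTopology W := by
  let s : ↥(Spec (CommRingCat.of K)) := (⊥ : PrimeSpectrum K)
  have h1 : _root_.IsDiscrete (c ⁻¹' {s}) := c.isDiscrete_preimage_singleton s
  have h2 : c ⁻¹' {s} = Set.univ := by
    ext x
    simp only [Set.mem_preimage, Set.mem_univ, iff_true]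
    exact Subsingleton.elim (α := PrimeSpectrum K) _ _
  rw [h2] at h1
  exact isDiscrete_univ_iff.1 h1

section triv

variable {k : Type u} [Field k] {kb : Type u} [Field kb] [Algebra k kb]
  {G : Over (Spec (CommRingCat.of k))} [GrpObj G] {X : Over (Spec (CommRingCat.of k))} (aX : AlgGrp.Action G X)

theorem sec_orb (x : SGA7.Pts kb X) (g : SGA7.Pts kb G) : secOfPt kb g ≫ orb aX x = secOfPt kb (ac aX g x) := by
  rw [comp_orb]
  have h1 : (bcEquiv (SGA7.pt (K := k) kb).hom _ G).symm (secOfPt kb g) = pp kb (𝟙_ _) ≫ g := by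
    rw [Equiv.symm_apply_eq, ← toUnit_sec, toUnit_unique (toUnit (𝟙_ (Over (Spec (CommRingCat.of kb))))) (𝟙 _),
      Category.id_comp]
  rw [h1, ← comp_ac, ← toUnit_sec, toUnit_unique (toUnit (𝟙_ (Over (Spec (CommRingCat.of kb))))) (𝟙 _),
      Category.id_comp]

/-- Geometric points with the same image are equal. -/
theorem sec_ext [IsAlgClosed kb] {Y : Over (Spec (CommRingCat.of kb))} [LocallyOfFiniteType Y.hom]
    {s t : 𝟙_ (Over (Spec (CommRingCat.of kb))) ⟶ Y}
    (h : s.left (IsLocalRing.closedPoint kb) = t.left (IsLocalRing.closedPoint kb)) : s = t := by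
  apply Over.OverMorphism.ext
  exact ext_of_apply_closedPoint_eq (K := kb) Y.hom (Over.w s) (Over.w t) h

/-- A connected subgroup acts trivially on a finite scheme. -/
theorem ac_eq [IsAlgClosed kb] [IsFinite X.hom] {U : Over (Spec (CommRingCat.of kb))} [GrpObj U]
    [ConnectedSpace U.left] (u : U ⟶ bcK kb G) [IsMonHom u] (g : SGA7.Pts kb G) (hg : g ∈ ptSub u)
    (x : SGA7.Pts kb X) : ac aX g x = x := by
  have hfin : IsFinite (bcK kb X).hom := by
    change IsFinite (pullback.snd _ _)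
    infer_instance
  have hdisc : DiscreteTopology (bcK kb X).left := discrete_of_isFinite (K := kb) (bcK kb X).hom
  obtain ⟨n, hn⟩ := hg
  have h1 : n ≫ (u ≫ orb aX x) = secOfPt kb (ac aX g x) := by
    rw [← Category.assoc, hn, sec_orb]
  have h2 : (1 : 𝟙_ (Over (Spec (CommRingCat.of kb))) ⟶ U) ≫ (u ≫ orb aX x) = secOfPt kb x := by
    rw [← Category.assoc, MonObj.one_comp, ← sec_one, sec_orb, ac_one]
  apply sec_injective
  rw [← h1, ← h2]
  apply sec_ext
  have hsub : (Set.range (u ≫ orb aX x).left).Subsingleton :=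
    (isPreconnected_range (u ≫ orb aX x).left.continuous).subsingleton
  exact hsub ⟨_, rfl⟩ ⟨_, rfl⟩

end triv

section norm

variable {k : Type u} [Field k] [Finite k] {kb : Type u} [Field kb] [Algebra k kb] [IsAlgClosed kb]

/-- **The identity component on points.** -/
theorem exists_norm (F : Over (Spec (CommRingCat.of k))) [GrpObj F] [Smooth F.hom] [IsAffineHom F.hom]
    (hFu : Red.HasNoSubtorus kb (GalTw.bcK kb F)) (d : ℕ)
    (hd : topologicalKrullDim ↥F.left = (d : WithBot ℕ∞))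
    {π : kb ≃ₐ[k] kb} (hπ : ∀ x, π x = x ^ Nat.card k) :
    ∃ K : Subgroup (SGA7.Pts kb F), K.Normal ∧ Finite (SGA7.Pts kb F ⧸ K) ∧ (∀ n ∈ K, π • n ∈ K) ∧
      (∀ b : SGA7.Pts kb F, ∀ n ∈ K, ∃ m ∈ K, m * (b * (π • m) * b⁻¹)⁻¹ = n) ∧
      (∀ b : SGA7.Pts kb F, Nat.card {m : SGA7.Pts kb F // m ∈ K ∧ b * (π • m) * b⁻¹ = m} = Nat.card k ^ d) ∧
      (∀ (E : Over (Spec (CommRingCat.of k))) [IsFinite E.hom] (aE : AlgGrp.Action F E) (n : SGA7.Pts kb F)
        (e : SGA7.Pts kb E), n ∈ K → ac aE n e = e) := by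
  have hlft : LocallyOfFiniteType (bcK kb F).hom := by
    change LocallyOfFiniteType (pullback.snd _ _)
    infer_instance
  have haff : IsAffineHom (bcK kb F).hom := by
    change IsAffineHom (pullback.snd _ _)
    infer_instance
  obtain ⟨U, _, u, hu1, hu2, hu3, hu4, hu5, ⟨α, hα, f, hf⟩, hu6⟩ := K869.IdComp.exists_idComp (bcK kb F)
  have haffU : IsAffineHom U.hom := by rw [← Over.w u]; infer_instance
  have humono : Mono u := Over.mono_of_mono_left u
  have hUu : Red.HasNoSubtorus kb U := by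
    intro T _ j _ _ hT
    have : Mono (j ≫ u) := mono_comp _ _
    exact hFu T (j ≫ u) hT
  have hstab : ∀ (e : bcK kb F ⟶ bcK kb F) [IsMonHom e], ∃ F : U ⟶ U, F ≫ u = u ≫ e := by
    intro e he
    exact hu5 e (IsMonHom.one_hom e)
  have hfrob : ∀ b : SGA7.Pts kb F, ∃ F' : U ⟶ U, F' ≫ u = u ≫ FrK kb F ≫ innK kb b := fun b =>
    hstab (FrK kb F ≫ innK kb b)
  have hinn : ∀ b : SGA7.Pts kb F, ∃ F' : U ⟶ U, F' ≫ u = u ≫ innK kb b := fun b => hstab (innK kb b)
  refine ⟨ptSub u, ⟨?_⟩, ?_, ?_, ?_, ?_, ?_⟩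
  · rintro n ⟨n', hn'⟩ b
    obtain ⟨F', hF'⟩ := hinn b
    refine ⟨n' ≫ F', ?_⟩
    rw [Category.assoc, hF', ← Category.assoc, hn', sec_innK]
  · refine Finite.of_injective (fun y : SGA7.Pts kb F ⧸ ptSub u => f (secOfPt kb y.out)) fun y y' h => ?_
    obtain ⟨n, hn⟩ := hf _ _ h
    rw [← Quotient.out_eq y, ← Quotient.out_eq y']
    refine QuotientGroup.eq.mpr ?_
    refine ⟨n, ?_⟩
    rw [hn, ← sec_inv, ← sec_mul]
  · intro n hn
    obtain ⟨F', hF'⟩ := hfrob 1
    have h := mem_tw u hπ hF' hn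
    rwa [_root_.one_mul, _root_.inv_one, _root_.mul_one] at h
  · intro b n hn
    obtain ⟨F', hF'⟩ := hfrob b
    exact lang_ptSub u hπ hF' n hn
  · intro b
    obtain ⟨F', hF'⟩ := hfrob b
    exact card_ptSub u hUu hπ hF' d (by rw [hu6, dim_bcK, hd])
  · intro E _ aE n e hn
    exact ac_eq aE u n hn e

end norm

end K869.FinAct
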