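import Groth.Agent.Sga3B.RedIdComp
import Groth.Agent.S3033
import Groth.Agent.TopDim.K284.Basic
import Groth.Agent.Sga3C.Transl
import Groth.Agent.Sga3C.LocConn
import Groth.Agent.Sga3B.RadOpen.PtTorus

/-!
# The reduced identity component: stability, finite index, dimension
-/

set_option autoImplicit false
set_option linter.unusedSectionVars false
universe u
open CategoryTheory Limits MonoidalCategory CartesianMonoidalCategory MonObj GrpObj AlgebraicGeometry

namespace K869.IdComp

open Groth.Agent Groth.Agent.Sga3B.RedIdComp Books.AlgPts Books.AlgPtsGrp Books.AlgPtsSmooth Books.AlgPtsGen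

variable {K : Type u} [Field K] [IsAlgClosed K]

theorem exists_factor {U S T : Over (Spec (CommRingCat.of K))} [IsReduced T.left] (u : U ⟶ S)
    [IsClosedImmersion u.left] (f : T ⟶ S) (h : Set.range f.left ⊆ Set.range u.left) : ∃ g : T ⟶ U, g ≫ u = f := by
  obtain ⟨g, hg⟩ := Ega1.ReducedSub.exists_factor_of_range_subset f.left u.left h
  refine ⟨Over.homMk g ?_, ?_⟩
  · rw [← Over.w u, ← Category.assoc, hg, Over.w f]
  · apply Over.OverMorphism.ext
    exact hg

instance isReduced_unit : IsReduced (𝟙_ (Over (Spec (CommRingCat.of K)))).left :=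
  inferInstanceAs (IsReduced (Spec (CommRingCat.of K)))

theorem range_pt {S : Over (Spec (CommRingCat.of K))} (x : 𝟙_ (Over (Spec (CommRingCat.of K))) ⟶ S) :
    Set.range x.left = {pt x} := by
  have hs : Subsingleton (𝟙_ (Over (Spec (CommRingCat.of K)))).left :=
    inferInstanceAs (Subsingleton (PrimeSpectrum K))
  ext z
  constructor
  · rintro ⟨y, rfl⟩
    exact congrArg x.left (Subsingleton.elim _ _)
  · rintro rfl
    exact ⟨_, rfl⟩

theorem exists_idComp (S : Over (Spec (CommRingCat.of K))) [GrpObj S] [LocallyOfFiniteType S.hom]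
    [QuasiCompact S.hom] :
    ∃ (U : Over (Spec (CommRingCat.of K))) (_ : GrpObj U) (u : U ⟶ S), IsMonHom u ∧ IsClosedImmersion u.left ∧
      Smooth U.hom ∧ ConnectedSpace U.left ∧
      (∀ E : S ⟶ S, η[S] ≫ E = η[S] → ∃ F : U ⟶ U, F ≫ u = u ≫ E) ∧
      (∃ (α : Type u) (_ : Finite α) (f : (𝟙_ (Over (Spec (CommRingCat.of K))) ⟶ S) → α), ∀ s s', f s = f s' →
        ∃ n : 𝟙_ (Over (Spec (CommRingCat.of K))) ⟶ U, n ≫ u = s⁻¹ * s') ∧
      topologicalKrullDim ↥U.left = topologicalKrullDim ↥S.left := by
  obtain ⟨U, _, u, hu1, hu2, hu3, hu4, hu5⟩ := exists_redIdComp S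
  have hred : IsReduced U.left := Books.AlgPtsSmooth.isReduced_of_smooth U
  have hnoe : IsLocallyNoetherian S.left := LocallyOfFiniteType.isLocallyNoetherian S.hom
  have hloc : LocallyConnectedSpace S.left := Sga3C.LocConn.locallyConnectedSpace_of_isLocallyNoetherian S.left
  have hcs : CompactSpace S.left := QuasiCompact.compactSpace_of_compactSpace S.hom
  refine ⟨U, inferInstance, u, hu1, hu2, hu3, hu4, fun E hE => ?_, ?_, ?_⟩
  · -- stability
    obtain ⟨F, hF⟩ := exists_factor u (u ≫ E) (by
      rw [hu5]
      have h1 : _root_.IsPreconnected (Set.range (u ≫ E).left) := isPreconnected_range (u ≫ E).left.continuous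
      refine h1.subset_connectedComponent ?_
      refine ⟨pt η[U], ?_⟩
      have h2 : (η[U] ≫ u) ≫ E = η[S] := by rw [IsMonHom.one_hom, hE]
      rw [← h2]
      rfl)
    exact ⟨F, hF⟩
  · -- finite index
    refine ⟨ConnectedComponents S.left, inferInstance, fun s => ConnectedComponents.mk (pt s), fun s s' h => ?_⟩
    have h1 : pt s' ∈ connectedComponent (pt s) := by
      rw [ConnectedComponents.coe_eq_coe] at h
      rw [h]
      exact mem_connectedComponent
    -- translate by `s⁻¹`
    let L : S ⟶ S := (toUnit S ≫ s⁻¹) * 𝟙 S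
    have hL : ∀ t : 𝟙_ (Over (Spec (CommRingCat.of K))) ⟶ S, t ≫ L = s⁻¹ * t := by
      intro t
      simp only [L]
      rw [MonObj.comp_mul, Category.comp_id, ← Category.assoc, toUnit_unique (t ≫ toUnit S) (𝟙 _), Category.id_comp]
    have h2 : pt (s⁻¹ * s') ∈ connectedComponent (pt η[S]) := by
      have h3 : L.left '' connectedComponent (pt s) ⊆ connectedComponent (L.left (pt s)) :=
        L.left.continuous.image_connectedComponent_subset _
      have h4 : L.left (pt s) = pt η[S] := by
        have : s ≫ L = η[S] := by
          rw [hL, inv_mul_cancel]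
          rw [MonObj.one_eq_one]
        rw [← this]
        rfl
      have h5 : L.left (pt s') = pt (s⁻¹ * s') := by
        rw [← hL]
        rfl
      rw [h4] at h3
      rw [← h5]
      exact h3 ⟨_, h1, rfl⟩
    exact exists_factor u (s⁻¹ * s') (by
      rw [range_pt, hu5]
      exact Set.singleton_subset_iff.mpr h2)
  · -- dimension
    have hne : Nonempty S.left := ⟨pt η[S]⟩
    have hΦ : Surjective (lift (Sga3C.Transl.regular S).act (snd S S)).left := by
      have h1 : IsIso (lift (Sga3C.Transl.regular S).act (snd S S)) := by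
        refine ⟨lift (fst S S * (snd S S)⁻¹) (snd S S), ?_, ?_⟩
        · ext1
          · rw [Category.assoc, lift_fst, MonObj.comp_mul, GrpObj.comp_inv, lift_fst, lift_snd, Category.id_comp]
            have : (Sga3C.Transl.regular S).act = fst S S * snd S S := by
              change μ[S] = _
              rw [MonObj.mul_eq_mul]
            rw [this]
            group
          · rw [Category.assoc, lift_snd, lift_snd, Category.id_comp]
        · ext1
          · rw [Category.assoc, lift_fst, Category.id_comp]
            have : (Sga3C.Transl.regular S).act = fst S S * snd S S := by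
              change μ[S] = _
              rw [MonObj.mul_eq_mul]
            rw [this, MonObj.comp_mul, lift_fst, lift_snd]
            group
          · rw [Category.assoc, lift_snd, lift_snd, Category.id_comp]
      have h2 : IsIso (lift (Sga3C.Transl.regular S).act (snd S S)).left :=
        inferInstanceAs (IsIso ((Over.forget _).map (lift (Sga3C.Transl.regular S).act (snd S S))))
      infer_instance
    have h1 : ∀ x : S.left, topologicalKrullDim ↥(connectedComponent x) =
        topologicalKrullDim ↥(connectedComponent (pt η[S])) := fun x =>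
      Groth.Agent.S3033.result K S S (Sga3C.Transl.regular S) hΦ x (pt η[S])
    have h2 : topologicalKrullDim ↥S.left = ⨆ x : S.left, topologicalKrullDim ↥(connectedComponent x) := by
      refine K284.TopDim.dim_eq_iSup_of_forall_irreducible (fun x : S.left => connectedComponent x) fun Z hZ => ?_
      obtain ⟨z, hz⟩ := hZ.nonempty
      exact ⟨z, hZ.isConnected.isPreconnected.subset_connectedComponent hz⟩
    rw [h2]
    simp only [h1, ciSup_const]
    rw [← hu5]
    exact (u.left.isClosedEmbedding.isEmbedding.toHomeomorph).isHomeomorph.topologicalKrullDim_eq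

end K869.IdComp
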