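import Groth.Agent.StackCount.K815.Mass
import Mathlib.GroupTheory.QuotientGroup.Basic

/-!
# Masses of groupoids of pairs `(g, x)` with `g • ψ x = x`: group theory

* `core`: counting in an extension of a finite group by a group satisfying Lang's theorem;
* `sum_pairs`: the mass of the classes met by a finite family of pairs;
* `sum_two`: comparison of the masses for two groups.
-/

set_option autoImplicit false
universe u v w z u' v' w'
open CategoryTheory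

namespace K869.Pairs

open K815.Mass

section core

variable {B : Type w} [Group B] (φ : B →* B) (N : Subgroup B) [N.Normal] [Finite (B ⧸ N)]

/-- **The core count.** -/
theorem core (hN : ∀ n ∈ N, φ n ∈ N) (sec : B ⧸ N → B) (hsec : ∀ y, (QuotientGroup.mk (sec y) : B ⧸ N) = y)
    (lang : ∀ b : B, ∀ n ∈ N, ∃ m ∈ N, m * (b * φ m * b⁻¹)⁻¹ = n) (Q : ℕ) (hQ0 : Q ≠ 0)
    (hQ : ∀ b : B, Nat.card {m : B // m ∈ N ∧ b * φ m * b⁻¹ = m} = Q) (y : B ⧸ N) :
    Nat.card {z : (B ⧸ N) × B // sec y * φ z.2 = z.2 * sec z.1} = Nat.card (B ⧸ N) * Q := by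
  classical
  let T := {z : (B ⧸ N) × B // sec y * φ z.2 = z.2 * sec z.1}
  let f : T → B ⧸ N := fun z => QuotientGroup.mk z.1.2
  have hφ : ∀ a b : B, (QuotientGroup.mk a : B ⧸ N) = QuotientGroup.mk b →
      (QuotientGroup.mk (φ a) : B ⧸ N) = QuotientGroup.mk (φ b) := by
    intro a b hab
    rw [QuotientGroup.eq] at hab ⊢
    rw [← map_inv, ← map_mul]
    exact hN _ hab
  -- a solution over every class
  have hex : ∀ c : B ⧸ N, ∃ (h0 : B) (y' : B ⧸ N), (QuotientGroup.mk h0 : B ⧸ N) = c ∧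
      sec y * φ h0 = h0 * sec y' := by
    intro c
    let b0 := sec c
    let y' : B ⧸ N := QuotientGroup.mk (b0⁻¹ * sec y * φ b0)
    have h1 : b0⁻¹ * sec y * φ b0 * (sec y')⁻¹ ∈ N := by
      have h2 : (QuotientGroup.mk (b0⁻¹ * sec y * φ b0) : B ⧸ N) = QuotientGroup.mk (sec y') := (hsec y').symm
      have h3 := QuotientGroup.eq.mp h2.symm
      have h4 := Subgroup.Normal.conj_mem ‹N.Normal› _ h3 (sec y')
      have h5 : sec y' * ((sec y')⁻¹ * (b0⁻¹ * sec y * φ b0)) * (sec y')⁻¹ = b0⁻¹ * sec y * φ b0 * (sec y')⁻¹ := by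
        group
      rwa [h5] at h4
    obtain ⟨m, hm, hmn⟩ := lang (sec y') _ h1
    refine ⟨b0 * m, y', ?_, ?_⟩
    · have : (QuotientGroup.mk (b0 * m) : B ⧸ N) = QuotientGroup.mk b0 := by
        rw [eq_comm, QuotientGroup.eq, inv_mul_cancel_left]
        exact hm
      rw [this]
      exact hsec c
    · have h2 : m * sec y' * (φ m)⁻¹ = b0⁻¹ * sec y * φ b0 := by
        have h3 : m * (sec y' * φ m * (sec y')⁻¹)⁻¹ * sec y' = b0⁻¹ * sec y * φ b0 := by
          rw [hmn]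
          group
        rw [← h3]
        group
      rw [map_mul]
      have h4 : sec y * φ b0 = b0 * (m * sec y' * (φ m)⁻¹) := by
        rw [h2]
        group
      rw [← mul_assoc, h4]
      group
  choose h0 y' hc hh using hex
  have e : T ≃ Σ c : B ⧸ N, {m : B // m ∈ N ∧ sec (y' c) * φ m * (sec (y' c))⁻¹ = m} := by
    refine (Equiv.sigmaFiberEquiv f).symm.trans (Equiv.sigmaCongrRight fun c => ?_)
    refine Equiv.ofBijective (fun z => ⟨(h0 c)⁻¹ * z.1.1.2, ?_, ?_⟩) ⟨?_, ?_⟩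
    · have h1 : (QuotientGroup.mk (h0 c) : B ⧸ N) = QuotientGroup.mk z.1.1.2 := (hc c).trans z.2.symm
      exact QuotientGroup.eq.mp h1
    · -- the image of the first coordinate
      have hz := z.1.2
      have h1 : (QuotientGroup.mk (h0 c) : B ⧸ N) = QuotientGroup.mk z.1.1.2 := (hc c).trans z.2.symm
      have h2 : z.1.1.1 = y' c := by
        rw [← hsec z.1.1.1, ← hsec (y' c)]
        have h3 : sec z.1.1.1 = (z.1.1.2)⁻¹ * (sec y * φ z.1.1.2) := by rw [hz]; group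
        have h4 : sec (y' c) = (h0 c)⁻¹ * (sec y * φ (h0 c)) := by rw [hh]; group
        rw [h3, h4, QuotientGroup.mk_mul, QuotientGroup.mk_mul, QuotientGroup.mk_mul, QuotientGroup.mk_mul,
          QuotientGroup.mk_inv, QuotientGroup.mk_inv, h1, hφ _ _ h1]
      rw [h2] at hz
      rw [map_mul, map_inv]
      have h3 : sec (y' c) * (φ (h0 c))⁻¹ = (h0 c)⁻¹ * sec y := by
        rw [mul_inv_eq_iff_eq_mul, mul_assoc, hh]
        group
      calc sec (y' c) * ((φ (h0 c))⁻¹ * φ z.1.1.2) * (sec (y' c))⁻¹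
          = (sec (y' c) * (φ (h0 c))⁻¹) * φ z.1.1.2 * (sec (y' c))⁻¹ := by group
        _ = (h0 c)⁻¹ * (sec y * φ z.1.1.2) * (sec (y' c))⁻¹ := by rw [h3]; group
        _ = (h0 c)⁻¹ * z.1.1.2 := by rw [hz]; group
    · intro z z' h
      have h1 : (h0 c)⁻¹ * z.1.1.2 = (h0 c)⁻¹ * z'.1.1.2 := congrArg Subtype.val h
      have h2 : z.1.1.2 = z'.1.1.2 := mul_left_cancel h1
      apply Subtype.ext
      apply Subtype.ext
      refine Prod.ext ?_ h2
      have hz := z.1.2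
      have hz' := z'.1.2
      rw [← h2, hz] at hz'
      have h3 := congrArg (QuotientGroup.mk : B → B ⧸ N) (mul_left_cancel hz')
      rwa [hsec, hsec] at h3
    · rintro ⟨m, hm, hm'⟩
      refine ⟨⟨⟨(y' c, h0 c * m), ?_⟩, ?_⟩, ?_⟩
      · change sec y * φ (h0 c * m) = h0 c * m * sec (y' c)
        rw [map_mul, ← mul_assoc, hh]
        have : sec (y' c) * φ m = m * sec (y' c) := by
          rw [← mul_inv_eq_iff_eq_mul]
          exact hm'
        rw [mul_assoc, this, mul_assoc]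
      · change (QuotientGroup.mk (h0 c * m) : B ⧸ N) = c
        rw [← hc c, eq_comm, QuotientGroup.eq, hc, inv_mul_cancel_left]
        exact hm
      · apply Subtype.ext
        change (h0 c)⁻¹ * (h0 c * m) = m
        group
  have hfin : ∀ b : B, Finite {m : B // m ∈ N ∧ b * φ m * b⁻¹ = m} := fun b => Nat.finite_of_card_ne_zero (by
    rw [hQ]; exact hQ0)
  let _ := Fintype.ofFinite (B ⧸ N)
  rw [Nat.card_congr e, Nat.card_sigma]
  simp only [hQ]
  rw [Finset.sum_const, Finset.card_univ, smul_eq_mul, Nat.card_eq_fintype_card]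

end core

section sum

variable {Γ : Type w} {Ω : Type z} [Group Γ] [MulAction Γ Ω] {C : Type u} [Category.{v} C] {φ : Γ →* Γ} {ψ : Ω → Ω}
  (D : Dict C φ ψ)

/-- The isomorphisms between two isomorphic pairs form a torsor under the automorphisms. -/
theorem card_hom_eq {p p' : Γ × Ω} (h : Dict.Rel φ p p') :
    Nonempty ({h : Γ // p.1 * φ h = h * p'.1 ∧ h • p'.2 = p.2} ≃ {h : Γ // p.1 * φ h = h * p.1 ∧ h • p.2 = p.2}) := by
  obtain ⟨a, h1, h2⟩ := h
  have h1' : p'.1 * (φ a)⁻¹ = a⁻¹ * p.1 := by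
    rw [mul_inv_eq_iff_eq_mul, mul_assoc, h1, inv_mul_cancel_left]
  have h2' : a⁻¹ • p.2 = p'.2 := by rw [inv_smul_eq_iff, h2]
  exact ⟨
    { toFun := fun h => ⟨h.1 * a⁻¹, by
        rw [map_mul, ← mul_assoc, h.2.1, map_inv, mul_assoc, h1', mul_assoc], by
        rw [mul_smul, h2', h.2.2]⟩
      invFun := fun h => ⟨h.1 * a, by
        rw [map_mul, ← mul_assoc, h.2.1, mul_assoc, h1, mul_assoc], by
        rw [mul_smul, h2, h.2.2]⟩
      left_inv := fun h => Subtype.ext (inv_mul_cancel_right _ _)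
      right_inv := fun h => Subtype.ext (mul_inv_cancel_right _ _) }⟩

/-- **The mass of the classes met by a finite family of pairs.** -/
theorem sum_pairs {Y : Type w'} [Finite Y] (pt : Y → Γ × Ω) (hpt : ∀ y, (pt y).1 • ψ (pt y).2 = (pt y).2)
    (M : ℕ) (hM : M ≠ 0)
    (hcount : ∀ y, Nat.card {z : Y × Γ // (pt y).1 * φ z.2 = z.2 * (pt z.1).1 ∧ z.2 • (pt z.1).2 = (pt y).2} = M)
    (S : Finset (StkCnt.IsoCl C))
    (hS : ∀ A : C, StkCnt.IsoCl.mk A ∈ S ↔ ∃ y, Dict.Rel φ (pt y) (D.pr A)) :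
    ∑ c ∈ S, ((StkCnt.autCard C c : ℕ) : ℚ)⁻¹ = (Nat.card Y : ℚ) / (M : ℚ) := by
  classical
  choose ob hob using fun y : Y => D.exists_obj (pt y) (hpt y)
  have hrel : ∀ y y' : Y, StkCnt.IsoCl.mk (ob y') = StkCnt.IsoCl.mk (ob y) ↔ Dict.Rel φ (pt y) (pt y') := by
    intro y y'
    rw [eq_comm, D.mk_eq_iff]
    change Dict.Rel φ (D.pr (ob y)) (D.pr (ob y')) ↔ _
    constructor
    · intro h
      exact ((hob y).trans h).trans (hob y').symm
    · intro h
      exact ((hob y).symm.trans h).trans (hob y')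
  refine sum_image M hM (fun y => StkCnt.IsoCl.mk (ob y)) ?_ S ?_
  · intro y
    rw [D.autCard, ← (hob y).card_eq, ← hcount y, ← Nat.card_prod]
    have e : {z : Y × Γ // (pt y).1 * φ z.2 = z.2 * (pt z.1).1 ∧ z.2 • (pt z.1).2 = (pt y).2} ≃
        Σ y' : {y' : Y // StkCnt.IsoCl.mk (ob y') = StkCnt.IsoCl.mk (ob y)},
          {h : Γ // (pt y).1 * φ h = h * (pt y'.1).1 ∧ h • (pt y'.1).2 = (pt y).2} :=
      { toFun := fun z => ⟨⟨z.1.1, (hrel y z.1.1).2 ⟨z.1.2, z.2⟩⟩, ⟨z.1.2, z.2⟩⟩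
        invFun := fun z => ⟨(z.1.1, z.2.1), z.2.2⟩
        left_inv := fun z => rfl
        right_inv := fun z => rfl }
    have e' : (Σ y' : {y' : Y // StkCnt.IsoCl.mk (ob y') = StkCnt.IsoCl.mk (ob y)},
          {h : Γ // (pt y).1 * φ h = h * (pt y'.1).1 ∧ h • (pt y'.1).2 = (pt y).2}) ≃
        Σ _ : {y' : Y // StkCnt.IsoCl.mk (ob y') = StkCnt.IsoCl.mk (ob y)},
          {h : Γ // (pt y).1 * φ h = h * (pt y).1 ∧ h • (pt y).2 = (pt y).2} :=
      Equiv.sigmaCongrRight fun y' => (card_hom_eq ((hrel y y'.1).1 y'.2)).some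
    exact (Nat.card_congr ((e.trans e').trans (Equiv.sigmaEquivProd _ _))).symm
  · intro c
    obtain ⟨A, rfl⟩ := Quotient.exists_rep c
    change StkCnt.IsoCl.mk A ∈ S ↔ _
    rw [hS]
    constructor
    · rintro ⟨y, hy⟩
      refine ⟨y, ?_⟩
      change StkCnt.IsoCl.mk _ = StkCnt.IsoCl.mk A
      rw [D.mk_eq_iff]
      exact (hob y).symm.trans hy
    · rintro ⟨y, hy⟩
      change StkCnt.IsoCl.mk _ = StkCnt.IsoCl.mk A at hy
      rw [D.mk_eq_iff] at hy
      exact ⟨y, (hob y).trans hy⟩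

end sum

section orbit

variable {Γ : Type w} {Ω : Type z} [Group Γ] [MulAction Γ Ω] {C : Type u} [Category.{v} C] {φ : Γ →* Γ} {ψ : Ω → Ω}
  (D : Dict C φ ψ)

/-- The twisted endomorphism of a stabiliser. -/
def twEnd (hψ : ∀ (g : Γ) (x : Ω), ψ (g • x) = φ g • ψ x) (x : Ω) (g0 : Γ) (hg0 : g0 • ψ x = x) :
    MulAction.stabilizer Γ x →* MulAction.stabilizer Γ x where
  toFun s := ⟨g0 * φ s.1 * g0⁻¹, by
    have h1 : g0⁻¹ • x = ψ x := by rw [inv_smul_eq_iff, hg0]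
    have h2 : s.1 • x = x := s.2
    rw [MulAction.mem_stabilizer_iff, mul_smul, h1, mul_smul, ← hψ, h2, hg0]⟩
  map_one' := Subtype.ext (by
    change g0 * φ 1 * g0⁻¹ = 1
    rw [map_one, mul_one, mul_inv_cancel])
  map_mul' a b := Subtype.ext (by
    change g0 * φ (a.1 * b.1) * g0⁻¹ = (g0 * φ a.1 * g0⁻¹) * (g0 * φ b.1 * g0⁻¹)
    rw [map_mul]
    group)

/-- **The mass of a stable orbit.** -/
theorem sum_orbit (hψ : ∀ (g : Γ) (x : Ω), ψ (g • x) = φ g • ψ x) (x : Ω) (g0 : Γ) (hg0 : g0 • ψ x = x)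
    (N : Subgroup (MulAction.stabilizer Γ x)) [N.Normal] [Finite (MulAction.stabilizer Γ x ⧸ N)]
    (hN : ∀ n ∈ N, twEnd hψ x g0 hg0 n ∈ N)
    (lang : ∀ b : MulAction.stabilizer Γ x, ∀ n ∈ N, ∃ m ∈ N, m * (b * twEnd hψ x g0 hg0 m * b⁻¹)⁻¹ = n)
    (Q : ℕ) (hQ0 : Q ≠ 0)
    (hQ : ∀ b : MulAction.stabilizer Γ x,
      Nat.card {m : MulAction.stabilizer Γ x // m ∈ N ∧ b * twEnd hψ x g0 hg0 m * b⁻¹ = m} = Q)
    (S : Finset (StkCnt.IsoCl C))
    (hS : ∀ A : C, StkCnt.IsoCl.mk A ∈ S ↔ ∃ h : Γ, h • x = (D.pr A).2) :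
    ∑ c ∈ S, ((StkCnt.autCard C c : ℕ) : ℚ)⁻¹ = ((Q : ℕ) : ℚ)⁻¹ := by
  classical
  let sec : MulAction.stabilizer Γ x ⧸ N → MulAction.stabilizer Γ x := Quotient.out
  have hsec : ∀ y, (QuotientGroup.mk (sec y) : MulAction.stabilizer Γ x ⧸ N) = y := fun y => Quotient.out_eq y
  have hcore := core (twEnd hψ x g0 hg0) N hN sec hsec lang Q hQ0 hQ
  have hP : Nat.card (MulAction.stabilizer Γ x ⧸ N) ≠ 0 := Nat.card_pos.ne'
  have key := sum_pairs D (fun y => ((sec y).1 * g0, x)) (fun y => by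
      change ((sec y).1 * g0) • ψ x = x
      rw [mul_smul, hg0]
      exact (sec y).2) (Nat.card (MulAction.stabilizer Γ x ⧸ N) * Q) (Nat.mul_ne_zero hP hQ0) (fun y => by
      rw [← hcore y]
      refine Nat.card_congr
        { toFun := fun z => ⟨(z.1.1, ⟨z.1.2, z.2.2⟩), ?_⟩
          invFun := fun z => ⟨(z.1.1, z.1.2.1), ?_, z.1.2.2⟩
          left_inv := fun z => rfl
          right_inv := fun z => rfl }
      · apply Subtype.ext
        change (sec y).1 * (g0 * φ z.1.2 * g0⁻¹) = z.1.2 * (sec z.1.1).1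
        have h1 : (sec y).1 * g0 * φ z.1.2 = z.1.2 * ((sec z.1.1).1 * g0) := z.2.1
        calc (sec y).1 * (g0 * φ z.1.2 * g0⁻¹) = ((sec y).1 * g0 * φ z.1.2) * g0⁻¹ := by group
          _ = _ := by rw [h1]; group
      · have h1 : (sec y).1 * (g0 * φ z.1.2.1 * g0⁻¹) = z.1.2.1 * (sec z.1.1).1 := congrArg Subtype.val z.2
        change (sec y).1 * g0 * φ z.1.2.1 = z.1.2.1 * ((sec z.1.1).1 * g0)
        calc (sec y).1 * g0 * φ z.1.2.1 = ((sec y).1 * (g0 * φ z.1.2.1 * g0⁻¹)) * g0 := by group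
          _ = _ := by rw [h1]; group) S (fun A => by
      rw [hS]
      constructor
      · rintro ⟨h, hh⟩
        -- move `A` to a pair over `x`
        let g1 : Γ := h⁻¹ * (D.pr A).1 * φ h
        have hg1 : g1 • ψ x = x := by
          change (h⁻¹ * (D.pr A).1 * φ h) • ψ x = x
          rw [mul_smul, ← hψ, hh, mul_smul, D.fix, ← hh, inv_smul_smul]
        have hs : g1 * g0⁻¹ ∈ MulAction.stabilizer Γ x := by
          rw [MulAction.mem_stabilizer_iff, mul_smul]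
          have : g0⁻¹ • x = ψ x := by rw [inv_smul_eq_iff, hg0]
          rw [this, hg1]
        let b : MulAction.stabilizer Γ x := ⟨g1 * g0⁻¹, hs⟩
        let y : MulAction.stabilizer Γ x ⧸ N := QuotientGroup.mk b
        have h1 : (sec y)⁻¹ * b ∈ N := QuotientGroup.eq.mp (hsec y)
        have h2 : b * (sec y)⁻¹ ∈ N := by
          have := Subgroup.Normal.conj_mem ‹N.Normal› _ h1 (sec y)
          have h3 : sec y * ((sec y)⁻¹ * b) * (sec y)⁻¹ = b * (sec y)⁻¹ := by group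
          rwa [h3] at this
        obtain ⟨m, _, hm⟩ := lang (sec y) _ h2
        have hm' : m.1 * ((sec y).1 * (g0 * φ m.1 * g0⁻¹) * ((sec y).1)⁻¹)⁻¹ = g1 * g0⁻¹ * ((sec y).1)⁻¹ :=
          congrArg Subtype.val hm
        refine ⟨y, m.1⁻¹ * h⁻¹, ?_, ?_⟩
        · change (sec y).1 * g0 * φ (m.1⁻¹ * h⁻¹) = m.1⁻¹ * h⁻¹ * (D.pr A).1
          have h4 : g1 = m.1 * (sec y).1 * g0 * (φ m.1)⁻¹ := by
            have : g1 = (g1 * g0⁻¹ * ((sec y).1)⁻¹) * (sec y).1 * g0 := by group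
            rw [this, ← hm']
            group
          have h5 : (D.pr A).1 = h * g1 * (φ h)⁻¹ := by
            change _ = h * (h⁻¹ * (D.pr A).1 * φ h) * (φ h)⁻¹
            group
          rw [h5, h4, map_mul, map_inv, map_inv]
          group
        · change (m.1⁻¹ * h⁻¹) • (D.pr A).2 = x
          rw [mul_smul, ← hh, inv_smul_smul]
          have : m.1 • x = x := m.2
          rw [inv_smul_eq_iff, this]
      · rintro ⟨y, a, _, ha⟩
        exact ⟨a⁻¹, by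
          rw [inv_smul_eq_iff]
          exact ha.symm⟩)
  rw [key]
  have hP' : (Nat.card (MulAction.stabilizer Γ x ⧸ N) : ℚ) ≠ 0 := Nat.cast_ne_zero.2 hP
  push_cast
  rw [div_mul_eq_div_div, div_self hP', one_div]

end orbit

section normal

variable {Γ : Type w} {Ω : Type z} [Group Γ] [MulAction Γ Ω] {C : Type u} [Category.{v} C] {φ : Γ →* Γ} {ψ : Ω → Ω}
  (D : Dict C φ ψ)

include D in
/-- **The mass, for a normal subgroup of finite index satisfying Lang's theorem.** -/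
theorem sum_normal (hψ : ∀ (g : Γ) (x : Ω), ψ (g • x) = φ g • ψ x)
    (K : Subgroup Γ) [K.Normal] [Finite (Γ ⧸ K)] (hK : ∀ n ∈ K, φ n ∈ K)
    (lang : ∀ b : Γ, ∀ n ∈ K, ∃ m ∈ K, m * (b * φ m * b⁻¹)⁻¹ = n)
    (Q : ℕ) (hQ0 : Q ≠ 0) (hQ : ∀ b : Γ, Nat.card {m : Γ // m ∈ K ∧ b * φ m * b⁻¹ = m} = Q)
    (sec : Γ ⧸ K → Γ) (hsec : ∀ y, (QuotientGroup.mk (sec y) : Γ ⧸ K) = y)
    [∀ y, Finite {x : Ω // sec y • ψ x = x}] [Fintype (StkCnt.IsoCl C)] :
    ∑ c : StkCnt.IsoCl C, ((StkCnt.autCard C c : ℕ) : ℚ)⁻¹ =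
      (Nat.card (Σ y : Γ ⧸ K, {x : Ω // sec y • ψ x = x}) : ℚ) / ((Nat.card (Γ ⧸ K) * Q : ℕ) : ℚ) := by
  classical
  have hcore := core φ K hK sec hsec lang Q hQ0 hQ
  have hP : Nat.card (Γ ⧸ K) ≠ 0 := Nat.card_pos.ne'
  refine sum_pairs D (fun y : (Σ y : Γ ⧸ K, {x : Ω // sec y • ψ x = x}) => (sec y.1, y.2.1)) (fun y => y.2.2)
    (Nat.card (Γ ⧸ K) * Q) (Nat.mul_ne_zero hP hQ0) (fun y => ?_) Finset.univ (fun A => ?_)
  · rw [← hcore y.1]
    refine Nat.card_congr (Equiv.ofBijective (fun z => ⟨(z.1.1.1, z.1.2), z.2.1⟩) ⟨?_, ?_⟩)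
    · rintro ⟨⟨⟨p, x, hx⟩, h⟩, h1, h2⟩ ⟨⟨⟨p', x', hx'⟩, h'⟩, h1', h2'⟩ heq
      have e1 : p = p' := congrArg (fun t => t.1.1) heq
      have e2 : h = h' := congrArg (fun t => t.1.2) heq
      subst e1 e2
      have e3 : x = x' := by
        have h3 : h • x = h • x' := (show h • x = _ from h2).trans (show h • x' = _ from h2').symm
        exact MulAction.injective h h3
      subst e3
      rfl
    · rintro ⟨⟨p, h⟩, h1⟩
      have h1' : sec y.1 * φ h = h * sec p := h1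
      have h3 : sec p = h⁻¹ * (sec y.1 * φ h) := by rw [h1']; group
      refine ⟨⟨(⟨p, h⁻¹ • y.2.1, ?_⟩, h), h1, smul_inv_smul _ _⟩, rfl⟩
      rw [hψ, h3, ← mul_smul]
      have h4 : h⁻¹ * (sec y.1 * φ h) * φ h⁻¹ = h⁻¹ * sec y.1 := by
        rw [map_inv]; group
      rw [h4, mul_smul, y.2.2]
  · refine ⟨fun _ => ?_, fun _ => Finset.mem_univ _⟩
    -- every object is isomorphic to one of the given pairs
    let b : Γ := (D.pr A).1
    let y : Γ ⧸ K := QuotientGroup.mk b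
    have h1 : (sec y)⁻¹ * b ∈ K := QuotientGroup.eq.mp (hsec y)
    have h2 : b * (sec y)⁻¹ ∈ K := by
      have := Subgroup.Normal.conj_mem ‹K.Normal› _ h1 (sec y)
      have h3 : sec y * ((sec y)⁻¹ * b) * (sec y)⁻¹ = b * (sec y)⁻¹ := by group
      rwa [h3] at this
    obtain ⟨m, _, hm⟩ := lang (sec y) _ h2
    have h3 : sec y * φ m⁻¹ = m⁻¹ * b := by
      have h4 : b = m * sec y * (φ m)⁻¹ := by
        have : b = (b * (sec y)⁻¹) * sec y := by group
        rw [this, ← hm]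
        group
      rw [h4, map_inv]
      group
    refine ⟨⟨y, m⁻¹ • (D.pr A).2, ?_⟩, m⁻¹, h3, rfl⟩
    rw [hψ, ← mul_smul, h3, mul_smul, D.fix]

end normal

section setoid

variable {Γ : Type w} [Group Γ] (φ : Γ →* Γ)

/-- Twisted conjugacy. -/
def twSetoid : Setoid Γ where
  r a a' := ∃ b, a * φ b = b * a'
  iseqv :=
    { refl := fun a => ⟨1, by rw [map_one, mul_one, one_mul]⟩
      symm := fun {a a'} ⟨b, hb⟩ => ⟨b⁻¹, by
        rw [map_inv, mul_inv_eq_iff_eq_mul, mul_assoc, hb, inv_mul_cancel_left]⟩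
      trans := fun {a a' a''} ⟨b, hb⟩ ⟨b', hb'⟩ => ⟨b * b', by
        rw [map_mul, ← mul_assoc, hb, mul_assoc, hb', mul_assoc]⟩ }

theorem twSetoid_iff {a a' : Γ} : (Quotient.mk (twSetoid φ) a = Quotient.mk (twSetoid φ) a') ↔
    ∃ b, a * φ b = b * a' := ⟨Quotient.exact, fun h => Quotient.sound (s := twSetoid φ) h⟩

end setoid

section two

variable {Γ : Type w} {Γ' : Type w'} {Ω : Type z} [Group Γ] [Group Γ'] [MulAction Γ Ω] [MulAction Γ' Ω]
  {C : Type u} [Category.{v} C] {C' : Type u'} [Category.{v'} C'] {φ : Γ →* Γ} {φ' : Γ' →* Γ'} {ψ : Ω → Ω}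
  (D : Dict C φ ψ) (D' : Dict C' φ' ψ)

include D D' in
/-- **Comparison of the masses for two groups with the same twisted classes.** -/
theorem sum_two (hψ : ∀ (g : Γ) (x : Ω), ψ (g • x) = φ g • ψ x) (hψ' : ∀ (g : Γ') (x : Ω), ψ (g • x) = φ' g • ψ x)
    (i : Γ' →* Γ) (hφ : ∀ a, φ (i a) = i (φ' a)) (hact : ∀ (a : Γ') (x : Ω), i a • x = a • x)
    (hcl : ∀ g : Γ, ∃ (a : Γ') (b : Γ), i a * φ b = b * g)
    (hinj : ∀ a a' : Γ', (∃ b, i a * φ b = b * i a') → ∃ b', a * φ' b' = b' * a')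
    (Q : ℕ) (hQ0 : Q ≠ 0) (hQ : ∀ a : Γ', Nat.card (cent φ (i a)) = Nat.card (cent φ' a) * Q)
    (hf : ∀ a, Finite (cent φ (i a))) (hf' : ∀ a, Finite (cent φ' a)) (hfx : ∀ a : Γ', Finite {x : Ω // a • ψ x = x})
    [Fintype (StkCnt.IsoCl C)] [Fintype (StkCnt.IsoCl C')] :
    (∑ c : StkCnt.IsoCl C, ((StkCnt.autCard C c : ℕ) : ℚ)⁻¹) * (Q : ℚ) =
      ∑ c : StkCnt.IsoCl C', ((StkCnt.autCard C' c : ℕ) : ℚ)⁻¹ := by
  classical
  choose al be hab using hcl
  let F : StkCnt.IsoCl C → Quotient (twSetoid φ') := fun c => Quotient.mk _ (al (D.pr c.out).1)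
  let F' : StkCnt.IsoCl C' → Quotient (twSetoid φ') := fun c => Quotient.mk _ (D'.pr c.out).1
  have hi : ∀ a a' : Γ', (∃ b, i a * φ b = b * i a') ↔ ∃ b', a * φ' b' = b' * a' := fun a a' =>
    ⟨hinj a a', fun ⟨b, hb⟩ => ⟨i b, by rw [hφ, ← map_mul, hb, map_mul]⟩⟩
  have htr : ∀ {a b c : Γ}, (∃ h, a * φ h = h * b) → (∃ h, b * φ h = h * c) → ∃ h, a * φ h = h * c :=
    fun {a b c} h1 h2 => (twSetoid φ).iseqv.trans h1 h2
  have hsy : ∀ {a b : Γ}, (∃ h, a * φ h = h * b) → (∃ h, b * φ h = h * a) := fun {a b} h1 => (twSetoid φ).iseqv.symm h1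
  have hF : ∀ (A : C) (a : Γ'), F (StkCnt.IsoCl.mk A) = Quotient.mk _ a ↔ ∃ h : Γ, i a * φ h = h * (D.pr A).1 := by
    intro A a
    have h1 : StkCnt.IsoCl.mk (Quotient.out (StkCnt.IsoCl.mk A)) = StkCnt.IsoCl.mk A := Quotient.out_eq _
    rw [D.mk_eq_iff] at h1
    obtain ⟨b, hb, -⟩ := h1
    change Quotient.mk _ (al (D.pr (Quotient.out (StkCnt.IsoCl.mk A))).1) = Quotient.mk _ a ↔ _
    rw [twSetoid_iff, ← hi]
    have h2 : ∃ h, i (al (D.pr (Quotient.out (StkCnt.IsoCl.mk A))).1) * φ h = h * (D.pr A).1 :=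
      htr ⟨_, hab _⟩ ⟨b, hb⟩
    exact ⟨fun h3 => htr (hsy h3) h2, fun h3 => htr h2 (hsy h3)⟩
  have hF' : ∀ (A : C') (a : Γ'), F' (StkCnt.IsoCl.mk A) = Quotient.mk _ a ↔
      ∃ h : Γ', a * φ' h = h * (D'.pr A).1 := by
    intro A a
    have h1 : StkCnt.IsoCl.mk (Quotient.out (StkCnt.IsoCl.mk A)) = StkCnt.IsoCl.mk A := Quotient.out_eq _
    rw [D'.mk_eq_iff] at h1
    obtain ⟨b, hb, -⟩ := h1
    change Quotient.mk _ (D'.pr (Quotient.out (StkCnt.IsoCl.mk A))).1 = Quotient.mk _ a ↔ _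
    rw [twSetoid_iff]
    have h2 : ∃ h, (D'.pr (Quotient.out (StkCnt.IsoCl.mk A))).1 * φ' h = h * (D'.pr A).1 := ⟨b, hb⟩
    exact ⟨fun h3 => (twSetoid φ').iseqv.trans ((twSetoid φ').iseqv.symm h3) h2,
      fun h3 => (twSetoid φ').iseqv.trans h2 ((twSetoid φ').iseqv.symm h3)⟩
  let T : Finset (Quotient (twSetoid φ')) := Finset.univ.image F ∪ Finset.univ.image F'
  rw [← Finset.sum_fiberwise_of_maps_to (s := Finset.univ) (t := T) (g := F)
      (fun c _ => Finset.mem_union_left _ (Finset.mem_image_of_mem _ (Finset.mem_univ c))),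
    ← Finset.sum_fiberwise_of_maps_to (s := Finset.univ) (t := T) (g := F')
      (fun c _ => Finset.mem_union_right _ (Finset.mem_image_of_mem _ (Finset.mem_univ c))), Finset.sum_mul]
  refine Finset.sum_congr rfl fun τ _ => ?_
  obtain ⟨a, rfl⟩ := Quotient.exists_rep τ
  have h1 := hf a
  have h2 := hf' a
  have h3 := hfx a
  have h4 : Finite {x : Ω // i a • ψ x = x} := by
    simpa only [hact] using h3
  rw [D.sum_fiber hψ (i a) _ (fun A => by
      rw [Finset.mem_filter]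
      simp only [Finset.mem_univ, true_and]
      exact hF A a),
    D'.sum_fiber hψ' a _ (fun A => by
      rw [Finset.mem_filter]
      simp only [Finset.mem_univ, true_and]
      exact hF' A a), hQ a]
  simp only [hact]
  have h5 : (Nat.card (cent φ' a) : ℚ) ≠ 0 := Nat.cast_ne_zero.2 Nat.card_pos.ne'
  have h6 : (Q : ℚ) ≠ 0 := Nat.cast_ne_zero.2 hQ0
  push_cast
  field_simp

end two

section lang

/-- Lang's property in an extension. -/
theorem lang_ext {A B C : Type*} [Group A] [Group B] [Group C] (i : A →* B) (p : B →* C)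
    (hp : Function.Surjective p) (hex : ∀ b, p b = 1 ↔ ∃ a, i a = b)
    (FB : B →* B) (FC : C → C) (hC : ∀ b, p (FB b) = FC (p b))
    (langA : ∀ b : B, ∀ a : A, ∃ a' : A, i a' * (b * FB (i a') * b⁻¹)⁻¹ = i a)
    (langC : ∀ c, ∃ c', c' * (FC c')⁻¹ = c) (b : B) : ∃ b', b' * (FB b')⁻¹ = b := by
  obtain ⟨c', hc'⟩ := langC (p b)
  obtain ⟨b1, rfl⟩ := hp c'
  -- `b = b1 * (i a) * (FB b1)⁻¹`-correction
  obtain ⟨a, ha⟩ := (hex (b1⁻¹ * b * FB b1)).1 (by
    rw [map_mul, map_mul, map_inv, hC, ← hc']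
    group)
  obtain ⟨a', ha'⟩ := langA 1 a
  refine ⟨b1 * i a', ?_⟩
  rw [one_mul, inv_one, mul_one] at ha'
  rw [map_mul, mul_inv_rev]
  have h1 : b1 * (i a' * (FB (i a'))⁻¹) * (FB b1)⁻¹ = b := by
    rw [ha', ha]
    group
  rw [← h1]
  group

end lang

end K869.Pairs
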