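import Groth.Agent.StackCount.K869.Unip
import Groth.Agent.StackCount.K869.Pairs
import Groth.Agent.StackCount.K815.DictMass
import Groth.Agent.Sga3B.NormBc
import Groth.Agent.FBase.K106.Dim

/-!
# The subgroup of `B(kb)` given by a subgroup `N ⟶ B_kb`, Lang's theorem and point counts for it
-/

set_option autoImplicit false
set_option linter.unusedSectionVars false
universe u
open CategoryTheory Limits MonoidalCategory CartesianMonoidalCategory MonObj GrpObj AlgebraicGeometry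

namespace K869.PtSub

open K815.Frob K815.PtsBC K815.TwLang GalTw

variable {k : Type u} [Field k] {kb : Type u} [Field kb] [Algebra k kb]

section basic

variable {B : Over (Spec (CommRingCat.of k))} [GrpObj B] {N : Over (Spec (CommRingCat.of kb))} [GrpObj N]
  (j : N ⟶ bcK kb B) [IsMonHom j]

/-- The points of `N` in `B(kb)`. -/
def ptSub : Subgroup (SGA7.Pts kb B) where
  carrier := {g | ∃ n : 𝟙_ (Over (Spec (CommRingCat.of kb))) ⟶ N, n ≫ j = secOfPt kb g}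
  one_mem' := ⟨1, by rw [MonObj.one_comp, sec_one]⟩
  mul_mem' := by
    rintro a b ⟨n, hn⟩ ⟨m, hm⟩
    exact ⟨n * m, by rw [MonObj.mul_comp, hn, hm, sec_mul]⟩
  inv_mem' := by
    rintro a ⟨n, hn⟩
    exact ⟨n⁻¹, by rw [GrpObj.inv_comp, hn, sec_inv]⟩

theorem mem_ptSub {g : SGA7.Pts kb B} : g ∈ ptSub j ↔
    ∃ n : 𝟙_ (Over (Spec (CommRingCat.of kb))) ⟶ N, n ≫ j = secOfPt kb g := Iff.rfl

variable [Finite k]

theorem tw_comp {π : kb ≃ₐ[k] kb} (hπ : ∀ x, π x = x ^ Nat.card k) {b : SGA7.Pts kb B} {F : N ⟶ N}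
    (hF : F ≫ j = j ≫ FrK kb B ≫ innK kb b) {n : 𝟙_ (Over (Spec (CommRingCat.of kb))) ⟶ N} {g : SGA7.Pts kb B}
    (hn : n ≫ j = secOfPt kb g) : (n ≫ F) ≫ j = secOfPt kb (b * (π • g) * b⁻¹) := by
  rw [Category.assoc, hF, reassoc_of% hn]
  have h1 : secOfPt kb g ≫ FrK kb B = secOfPt kb (π • g) := by
    rw [← pt_comp_Fr' hπ]
    exact sec_comp g (Fr B)
  rw [reassoc_of% h1, sec_innK]

theorem mem_tw {π : kb ≃ₐ[k] kb} (hπ : ∀ x, π x = x ^ Nat.card k) {b : SGA7.Pts kb B} {F : N ⟶ N}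
    (hF : F ≫ j = j ≫ FrK kb B ≫ innK kb b) {g : SGA7.Pts kb B} (hg : g ∈ ptSub j) :
    b * (π • g) * b⁻¹ ∈ ptSub j := by
  obtain ⟨n, hn⟩ := hg
  exact ⟨n ≫ F, tw_comp j hπ hF hn⟩

theorem lang_ptSub [IsAlgClosed kb] [Smooth N.hom] [ConnectedSpace N.left] [Mono j] {π : kb ≃ₐ[k] kb}
    (hπ : ∀ x, π x = x ^ Nat.card k) {b : SGA7.Pts kb B} {F : N ⟶ N}
    (hF : F ≫ j = j ≫ FrK kb B ≫ innK kb b) (n : SGA7.Pts kb B) (hn : n ∈ ptSub j) :
    ∃ m ∈ ptSub j, m * (b * (π • m) * b⁻¹)⁻¹ = n := by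
  obtain ⟨y, hy⟩ := hn
  obtain ⟨x, hx⟩ := exists_pt B N j b F hF y
  let m : SGA7.Pts kb B := ofSec (x ≫ j)
  have hm : x ≫ j = secOfPt kb m := (sec_ofSec _).symm
  refine ⟨m, ⟨x, hm⟩, ?_⟩
  apply sec_injective
  rw [sec_mul, sec_inv, ← tw_comp j hπ hF hm, ← hm, ← hy, ← hx, MonObj.mul_comp, GrpObj.inv_comp]

theorem ptSub_equiv [Mono j] {π : kb ≃ₐ[k] kb}
    (hπ : ∀ x, π x = x ^ Nat.card k) {b : SGA7.Pts kb B} {F : N ⟶ N}
    (hF : F ≫ j = j ≫ FrK kb B ≫ innK kb b) :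
    Nonempty ({x : 𝟙_ (Over (Spec (CommRingCat.of kb))) ⟶ N // x ≫ F = x} ≃
      {m : SGA7.Pts kb B // m ∈ ptSub j ∧ b * (π • m) * b⁻¹ = m}) := by
  refine ⟨Equiv.ofBijective (fun x => ⟨ofSec (x.1 ≫ j), ⟨x.1, (sec_ofSec _).symm⟩, ?_⟩) ⟨?_, ?_⟩⟩
  · apply sec_injective
    rw [← tw_comp j hπ hF (sec_ofSec (x.1 ≫ j)).symm, x.2, sec_ofSec]
  · intro x y h
    have h1 : ofSec (x.1 ≫ j) = ofSec (y.1 ≫ j) := congrArg Subtype.val h
    have h2 : x.1 ≫ j = y.1 ≫ j := by rw [← sec_ofSec (x.1 ≫ j), h1, sec_ofSec]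
    exact Subtype.ext ((cancel_mono j).1 h2)
  · rintro ⟨m, ⟨n, hn⟩, hm⟩
    refine ⟨⟨n, ?_⟩, ?_⟩
    · rw [← cancel_mono j, tw_comp j hπ hF hn, hm, hn]
    · apply Subtype.ext
      apply sec_injective
      change secOfPt kb (ofSec (n ≫ j)) = _
      rw [sec_ofSec, hn]

/-- **The number of fixed points in `N(kb)`**, for `N` smooth connected unipotent. -/
theorem card_ptSub [IsAlgClosed kb] [IsAffineHom B.hom] [LocallyOfFiniteType B.hom] [Smooth N.hom] [IsAffineHom N.hom]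
    [ConnectedSpace N.left] (hN : Red.HasNoSubtorus kb N) [Mono j] {π : kb ≃ₐ[k] kb}
    (hπ : ∀ x, π x = x ^ Nat.card k) {b : SGA7.Pts kb B} {F : N ⟶ N}
    (hF : F ≫ j = j ≫ FrK kb B ≫ innK kb b) (d : ℕ) (hd : topologicalKrullDim ↥N.left = (d : WithBot ℕ∞)) :
    Nat.card {m : SGA7.Pts kb B // m ∈ ptSub j ∧ b * (π • m) * b⁻¹ = m} = Nat.card k ^ d := by
  rw [← K869.Unip.card_fixed B N hN j b F hF d hd]
  exact (Nat.card_congr (ptSub_equiv j hπ hF).some).symm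

end basic

section bc

variable {B U : Over (Spec (CommRingCat.of k))} [GrpObj B] [GrpObj U] (i : U ⟶ B) [IsMonHom i]

/-- The base change of a homomorphism. -/
noncomputable abbrev mapK (kb : Type u) [Field kb] [Algebra k kb] {U B : Over (Spec (CommRingCat.of k))} (i : U ⟶ B) :
    bcK kb U ⟶ bcK kb B := (Over.pullback (SGA7.pt (K := k) kb).hom).map i

instance : IsMonHom (mapK kb i) := inferInstanceAs (IsMonHom ((Over.pullback (SGA7.pt (K := k) kb).hom).map i))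

instance [Mono i] : Mono (mapK kb i) := inferInstanceAs (Mono ((Over.pullback (SGA7.pt (K := k) kb).hom).map i))

theorem mem_ptSub_mapK {g : SGA7.Pts kb B} : g ∈ ptSub (mapK kb i) ↔ ∃ u : SGA7.Pts kb U, u ≫ i = g := by
  constructor
  · rintro ⟨n, hn⟩
    refine ⟨ofSec n, sec_injective ?_⟩
    rw [← sec_comp, sec_ofSec]
    exact hn
  · rintro ⟨u, rfl⟩
    exact ⟨secOfPt kb u, sec_comp u i⟩

theorem dim_bcK (X : Over (Spec (CommRingCat.of k))) [LocallyOfFiniteType X.hom] :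
    topologicalKrullDim ↥(bcK kb X).left = topologicalKrullDim ↥X.left :=
  K106.Dim.topologicalKrullDim_bc_eq X.hom kb

variable [Finite k]

/-- The twisted Frobenius on a normal subgroup. -/
theorem exists_tw_normal (hn : AlgGrp.IsNormalHom i) (b : SGA7.Pts kb B) :
    ∃ F : bcK kb U ⟶ bcK kb U, F ≫ mapK kb i = mapK kb i ≫ FrK kb B ≫ innK kb b := by
  have h1 := Groth.Agent.Sga3B.NormBc.isNormalHom_bc (SGA7.pt (K := k) kb).hom i hn
  have h2 : FrK kb U ≫ mapK kb i = mapK kb i ≫ FrK kb B := by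
    simp only [FrK, mapK]
    rw [← Functor.map_comp, ← Functor.map_comp, comp_Fr]
  obtain ⟨n', hn'⟩ := h1 (bcK kb U) (toUnit _ ≫ secOfPt kb b) (FrK kb U)
  refine ⟨n', ?_⟩
  rw [← reassoc_of% h2, ← Category.assoc, K869.Emb.comp_innK]
  exact hn'.symm

end bc

end K869.PtSub
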