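import Groth.Agent.StackCount.K869.PtSub
import Groth.Agent.StackCount.K869.IdComp

/-!
# Stabilisers of geometric points and their twisted Frobenius endomorphisms
-/

set_option autoImplicit false
set_option linter.unusedSectionVars false
universe u
open CategoryTheory Limits MonoidalCategory CartesianMonoidalCategory MonObj GrpObj AlgebraicGeometry

namespace K869.Stab

open K815.Frob K815.PtsBC K815.TwLang K815.Tors GalTw K869.PtSub Groth.Agent.Sga3B.BcPts

section basic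

variable {k : Type u} [Field k] {kb : Type u} [Field kb] [Algebra k kb]
  {G : Over (Spec (CommRingCat.of k))} [GrpObj G] {X : Over (Spec (CommRingCat.of k))} (aX : AlgGrp.Action G X)

/-- The base point of a `kb`-scheme regarded over `k`. -/
noncomputable def pp (kb : Type u) [Field kb] [Algebra k kb] (T : Over (Spec (CommRingCat.of kb))) :
    (Over.map (SGA7.pt (K := k) kb).hom).obj T ⟶ SGA7.pt (K := k) kb :=
  Over.homMk T.hom rfl

theorem map_pp {T T' : Over (Spec (CommRingCat.of kb))} (f : T' ⟶ T) :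
    (Over.map (SGA7.pt (K := k) kb).hom).map f ≫ pp kb T = pp kb T' := by
  apply Over.OverMorphism.ext
  exact Over.w f

theorem toUnit_sec {Y : Over (Spec (CommRingCat.of k))} (T : Over (Spec (CommRingCat.of kb))) (y : SGA7.Pts kb Y) :
    toUnit T ≫ secOfPt kb y = bcEquiv (SGA7.pt (K := k) kb).hom T Y (pp kb T ≫ y) := by
  rw [sec_eq, ← comp_bcEquiv]
  congr 1

/-- The property of fixing the point `x`. -/
def Fix (x : SGA7.Pts kb X) {T : Over (Spec (CommRingCat.of kb))} (t : T ⟶ bcK kb G) : Prop :=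
  ac aX ((bcEquiv (SGA7.pt (K := k) kb).hom T G).symm t) (pp kb T ≫ x) = pp kb T ≫ x

/-- The orbit map. -/
noncomputable def orb (x : SGA7.Pts kb X) : bcK kb G ⟶ bcK kb X :=
  bcEquiv (SGA7.pt (K := k) kb).hom _ X
    (ac aX ((bcEquiv (SGA7.pt (K := k) kb).hom (bcK kb G) G).symm (𝟙 _)) (pp kb _ ≫ x))

theorem comp_orb (x : SGA7.Pts kb X) {T : Over (Spec (CommRingCat.of kb))} (t : T ⟶ bcK kb G) :
    t ≫ orb aX x = bcEquiv (SGA7.pt (K := k) kb).hom T X
      (ac aX ((bcEquiv (SGA7.pt (K := k) kb).hom T G).symm t) (pp kb T ≫ x)) := by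
  rw [orb, ← comp_bcEquiv, comp_ac, ← comp_bcEquiv_symm, Category.comp_id, ← Category.assoc, map_pp]

theorem fix_iff (x : SGA7.Pts kb X) {T : Over (Spec (CommRingCat.of kb))} (t : T ⟶ bcK kb G) :
    Fix aX x t ↔ t ≫ orb aX x = toUnit T ≫ secOfPt kb x := by
  rw [comp_orb, toUnit_sec, (bcEquiv (SGA7.pt (K := k) kb).hom T X).injective.eq_iff]
  rfl

theorem isClosedImmersion_sec (x : SGA7.Pts kb X) : IsClosedImmersion (secOfPt kb x).left := by
  have hs : Subsingleton ↥(Spec (CommRingCat.of kb)) := inferInstanceAs (Subsingleton (PrimeSpectrum kb))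
  exact isClosedImmersion_of_comp_eq_id (Y := Spec (CommRingCat.of kb)) (bcK kb X).hom (secOfPt kb x).left
    (Over.w (secOfPt kb x))

/-- The stabiliser, as a subgroup scheme. -/
structure IsStab (x : SGA7.Pts kb X) {S : Over (Spec (CommRingCat.of kb))} (s : S ⟶ bcK kb G) : Prop where
  iff : ∀ {T : Over (Spec (CommRingCat.of kb))} (t : T ⟶ bcK kb G), (∃ g' : T ⟶ S, g' ≫ s = t) ↔ Fix aX x t

variable {aX}

theorem IsStab.isClosedImmersion {x : SGA7.Pts kb X} {S : Over (Spec (CommRingCat.of kb))} {s : S ⟶ bcK kb G}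
    [Mono s] (h : IsStab aX x s) : IsClosedImmersion s.left := by
  have hsq : IsPullback s (toUnit S) (orb aX x) (secOfPt kb x) := by
    refine ⟨⟨(fix_iff aX x s).1 ((h.iff s).1 ⟨𝟙 S, Category.id_comp s⟩)⟩, ⟨PullbackCone.IsLimit.mk _
      (fun c => ((h.iff c.fst).2 ((fix_iff aX x c.fst).2 (by
        rw [c.condition]; congr 1; exact toUnit_unique _ _))).choose)
      (fun c => ((h.iff c.fst).2 ((fix_iff aX x c.fst).2 (by
        rw [c.condition]; congr 1; exact toUnit_unique _ _))).choose_spec)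
      (fun c => toUnit_unique _ _) (fun c m hm1 _ => ?_)⟩⟩
    rw [← cancel_mono s, hm1]
    exact ((h.iff c.fst).2 ((fix_iff aX x c.fst).2 (by
        rw [c.condition]; congr 1; exact toUnit_unique _ _))).choose_spec.symm
  have hsq' : IsPullback s.left (toUnit S).left (orb aX x).left (secOfPt kb x).left :=
    hsq.map (Over.forget (Spec (CommRingCat.of kb)))
  exact MorphismProperty.of_isPullback (P := @IsClosedImmersion) hsq'.flip (isClosedImmersion_sec x)

end basic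

section frob

variable {k : Type u} [Field k] [Finite k] {kb : Type u} [Field kb] [Algebra k kb]
  {G : Over (Spec (CommRingCat.of k))} [GrpObj G] {X : Over (Spec (CommRingCat.of k))} {aX : AlgGrp.Action G X}

theorem comp_Fr_lift {T Y Z : Over (Spec (CommRingCat.of k))} (a : T ⟶ Y) (b : T ⟶ Z) :
    lift a b ≫ Fr (Y ⊗ Z) = lift (a ≫ Fr Y) (b ≫ Fr Z) := by
  ext1
  · rw [Category.assoc, ← comp_Fr, lift_fst_assoc, lift_fst]
  · rw [Category.assoc, ← comp_Fr, lift_snd_assoc, lift_snd]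

theorem ac_Fr {T : Over (Spec (CommRingCat.of k))} (g : T ⟶ G) (y : T ⟶ X) :
    ac aX g y ≫ Fr X = ac aX (g ≫ Fr G) (y ≫ Fr X) := by
  rw [ac_def, ac_def, Category.assoc, comp_Fr, ← Category.assoc, comp_Fr_lift]

theorem symm_innK (b : SGA7.Pts kb G) {T : Over (Spec (CommRingCat.of kb))} (t : T ⟶ bcK kb G) :
    (bcEquiv (SGA7.pt (K := k) kb).hom T G).symm (t ≫ innK kb b) =
      (pp kb T ≫ b) * (bcEquiv (SGA7.pt (K := k) kb).hom T G).symm t * (pp kb T ≫ b)⁻¹ := by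
  have h : ∀ u v : T ⟶ bcK kb G, (bcEquiv (SGA7.pt (K := k) kb).hom T G).symm (u * v) =
      (bcEquiv (SGA7.pt (K := k) kb).hom T G).symm u * (bcEquiv (SGA7.pt (K := k) kb).hom T G).symm v :=
    fun u v => map_mul (bcMulEquiv (SGA7.pt (K := k) kb).hom T G).symm u v
  have h' : ∀ u : T ⟶ bcK kb G, (bcEquiv (SGA7.pt (K := k) kb).hom T G).symm (u⁻¹) =
      ((bcEquiv (SGA7.pt (K := k) kb).hom T G).symm u)⁻¹ :=
    fun u => map_inv (bcMulEquiv (SGA7.pt (K := k) kb).hom T G).symm u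
  rw [K869.Emb.comp_innK, h, h, h', toUnit_sec, Equiv.symm_apply_apply]

/-- A point of the stabiliser normalises the condition. -/
theorem Fix.innK {x : SGA7.Pts kb X} {b : SGA7.Pts kb G} (hb : ac aX b x = x)
    {T : Over (Spec (CommRingCat.of kb))} {t : T ⟶ bcK kb G} (ht : Fix aX x t) : Fix aX x (t ≫ GalTw.innK kb b) := by
  unfold Fix at *
  have h1 : ac aX (pp kb T ≫ b) (pp kb T ≫ x) = pp kb T ≫ x := by rw [← comp_ac, hb]
  have h2 : ac aX (pp kb T ≫ b)⁻¹ (pp kb T ≫ x) = pp kb T ≫ x := by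
    conv_lhs => rw [← h1]
    rw [ac_inv_ac]
  rw [symm_innK, ac_mul, ac_mul, h2, ht, h1]

/-- The twisted Frobenius preserves the condition. -/
theorem Fix.frob {π : kb ≃ₐ[k] kb} (hπ : ∀ x, π x = x ^ Nat.card k) {x : SGA7.Pts kb X} {b : SGA7.Pts kb G}
    (hb : ac aX b (π • x) = x) {T : Over (Spec (CommRingCat.of kb))} {t : T ⟶ bcK kb G} (ht : Fix aX x t) :
    Fix aX x (t ≫ FrK kb G ≫ GalTw.innK kb b) := by
  unfold Fix at *
  have h0 : (bcEquiv (SGA7.pt (K := k) kb).hom T G).symm (t ≫ FrK kb G) =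
      (bcEquiv (SGA7.pt (K := k) kb).hom T G).symm t ≫ Fr G := bcEquiv_symm_comp _ t (Fr G)
  have h1 : ac aX (pp kb T ≫ b) (pp kb T ≫ (π • x)) = pp kb T ≫ x := by rw [← comp_ac, hb]
  have h2 : ac aX (pp kb T ≫ b)⁻¹ (pp kb T ≫ x) = pp kb T ≫ (π • x) := by
    conv_lhs => rw [← h1]
    rw [ac_inv_ac]
  have h3 : pp kb T ≫ (π • x) = (pp kb T ≫ x) ≫ Fr X := by
    rw [← pt_comp_Fr' hπ, Category.assoc]
  rw [← Category.assoc, symm_innK, ac_mul, ac_mul, h2, h0, h3, ← ac_Fr, ht, ← h3, h1]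

theorem IsStab.exists_frob {π : kb ≃ₐ[k] kb} (hπ : ∀ x, π x = x ^ Nat.card k) {x : SGA7.Pts kb X}
    {S : Over (Spec (CommRingCat.of kb))} {s : S ⟶ bcK kb G} (h : IsStab aX x s) {b : SGA7.Pts kb G}
    (hb : ac aX b (π • x) = x) : ∃ E : S ⟶ S, E ≫ s = s ≫ FrK kb G ≫ GalTw.innK kb b :=
  (h.iff _).2 (Fix.frob hπ hb ((h.iff s).1 ⟨𝟙 S, Category.id_comp s⟩))

theorem IsStab.exists_inn {x : SGA7.Pts kb X}
    {S : Over (Spec (CommRingCat.of kb))} {s : S ⟶ bcK kb G} (h : IsStab aX x s) {b : SGA7.Pts kb G}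
    (hb : ac aX b x = x) : ∃ E : S ⟶ S, E ≫ s = s ≫ GalTw.innK kb b :=
  (h.iff _).2 (Fix.innK hb ((h.iff s).1 ⟨𝟙 S, Category.id_comp s⟩))

theorem fix_sec (x : SGA7.Pts kb X) (g : SGA7.Pts kb G) : Fix aX x (secOfPt kb g) ↔ ac aX g x = x := by
  rw [fix_iff, comp_orb]
  have h1 : (bcEquiv (SGA7.pt (K := k) kb).hom _ G).symm (secOfPt kb g) = pp kb (𝟙_ _) ≫ g := by
    rw [Equiv.symm_apply_eq, ← toUnit_sec, toUnit_unique (toUnit (𝟙_ (Over (Spec (CommRingCat.of kb))))) (𝟙 _),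
      Category.id_comp]
  rw [h1, ← comp_ac, ← toUnit_sec, toUnit_unique (toUnit (𝟙_ (Over (Spec (CommRingCat.of kb))))) (𝟙 _),
      Category.id_comp, Category.id_comp]
  exact (secE X).injective.eq_iff

end frob

end K869.Stab
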