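import Groth.Agent.StackCount.K869.Emb
import Groth.Agent.StackCount.K869.Desc
import Groth.Agent.S3036
import Groth.Agent.PRed.K543.UnipPts
import Mathlib.GroupTheory.PGroup

/-!
# The number of Frobenius-fixed points of a connected unipotent group

`card_fixed_unip`: `N` smooth connected affine over an algebraic closure `kb` of the finite field `k`, containing no
torus, with a monomorphism `j : N ⟶ bcK kb B` stable under a twisted Frobenius: the number of rational points of `N`
fixed by the twisted Frobenius is `q ^ dim N`.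
-/

set_option autoImplicit false
set_option linter.unusedSectionVars false
universe u
open CategoryTheory Limits MonoidalCategory CartesianMonoidalCategory MonObj GrpObj AlgebraicGeometry
open scoped TensorProduct

namespace K869.Unip

open Groth.Agent Groth.Agent.Books.AffBridge Groth.Agent.Books.AffBridge2
open K815.Frob K815.PtsBC K815.TwLang GalTw HopfRep

section ring

variable {k : Type u} [Field k] {kb : Type u} [Field kb] [Algebra k kb]

/-- A closed immersion of `Spec A` in the base change of `Spec R`: `A` is generated over `kb` by the image of `R`. -/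
theorem exists_ringHom_aux (R : Type u) [CommRing R] [Algebra k R] (A : Type u) [CommRing A] [Algebra kb A]
    [Algebra k A] [IsScalarTower k kb A]
    (j : Spec (CommRingCat.of A) ⟶ pullback (Spec.map (CommRingCat.ofHom (algebraMap k R)))
      (Spec.map (CommRingCat.ofHom (algebraMap k kb)))) [IsClosedImmersion j]
    (hj : j ≫ pullback.snd _ _ = Spec.map (CommRingCat.ofHom (algebraMap kb A))) :
    ∃ f : R →ₐ[k] A, j ≫ pullback.fst _ _ = Spec.map (CommRingCat.ofHom f.toRingHom) ∧
      Submodule.span kb (f.range : Set A) = ⊤ := by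
  obtain ⟨φ, hφ⟩ := Spec.map_surjective (j ≫ (pullbackSpecIso k R kb).hom)
  have h0 : IsClosedImmersion (j ≫ (pullbackSpecIso k R kb).hom) := by infer_instance
  have hsurj : Function.Surjective φ := by
    rw [← hφ] at h0
    have h1 := (IsClosedImmersion.isAffine_surjective_of_isAffine (Spec.map φ)).2
    have h2 := Scheme.ΓSpecIso_inv_naturality φ
    have h3 : φ = (Scheme.ΓSpecIso _).inv ≫ (Spec.map φ).appTop ≫ (Scheme.ΓSpecIso _).hom := by
      rw [← reassoc_of% h2, Iso.inv_hom_id, Category.comp_id]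
    rw [h3]
    exact ((ConcreteCategory.bijective_of_isIso (Scheme.ΓSpecIso (CommRingCat.of A)).hom).2.comp h1).comp
      (ConcreteCategory.bijective_of_isIso (Scheme.ΓSpecIso (CommRingCat.of (R ⊗[k] kb))).inv).2
  have hfst : j ≫ pullback.fst _ _ =
      Spec.map (CommRingCat.ofHom (Algebra.TensorProduct.includeLeftRingHom) ≫ φ) := by
    rw [Spec.map_comp, hφ, Category.assoc, pullbackSpecIso_hom_fst]
  have hsnd : Spec.map (CommRingCat.ofHom (algebraMap kb A)) =
      Spec.map (CommRingCat.ofHom ((Algebra.TensorProduct.includeRight : kb →ₐ[k] R ⊗[k] kb).toRingHom) ≫ φ) := by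
    rw [Spec.map_comp, hφ, Category.assoc, ← hj]
    congr 1
    exact (pullbackSpecIso_hom_snd k R kb).symm
  have hr : ∀ c : kb, φ ((1 : R) ⊗ₜ[k] c) = algebraMap kb A c := by
    intro c
    exact (RingHom.congr_fun (congrArg CommRingCat.Hom.hom (Spec.map_injective hsnd)) c).symm
  let f : R →ₐ[k] A :=
    { (φ.hom.comp Algebra.TensorProduct.includeLeftRingHom : R →+* A) with
      commutes' := fun c => by
        change φ ((algebraMap k R c) ⊗ₜ[k] (1 : kb)) = algebraMap k A c
        rw [Algebra.algebraMap_eq_smul_one (A := R), TensorProduct.smul_tmul, ← Algebra.algebraMap_eq_smul_one, hr,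
          ← IsScalarTower.algebraMap_apply] }
  have hf : ∀ r : R, f r = φ (r ⊗ₜ[k] (1 : kb)) := fun r => rfl
  refine ⟨f, hfst, ?_⟩
  rw [eq_top_iff]
  intro a ha
  clear ha
  obtain ⟨t, rfl⟩ := hsurj a
  induction t using TensorProduct.induction_on with
  | zero => rw [map_zero]; exact Submodule.zero_mem _
  | tmul r c =>
    have h1 : (r ⊗ₜ[k] c : R ⊗[k] kb) = (1 ⊗ₜ c) * (r ⊗ₜ 1) := by
      rw [Algebra.TensorProduct.tmul_mul_tmul, _root_.one_mul, _root_.mul_one]
    have h2 : φ (r ⊗ₜ[k] c) = c • f r := by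
      rw [h1, map_mul, hr, hf, Algebra.smul_def]
    rw [h2]
    exact Submodule.smul_mem _ _ (Submodule.subset_span ⟨r, rfl⟩)
  | add x y hx hy => rw [map_add]; exact Submodule.add_mem _ hx hy

theorem exists_ringHom (R : Type u) [CommRing R] [Algebra k R] (A : Type u) [CommRing A] [Algebra kb A] [Algebra k A]
    [IsScalarTower k kb A] (j : SpecOver kb A ⟶ bcK kb (SpecOver k R)) [hj : IsClosedImmersion j.left] :
    ∃ f : R →ₐ[k] A, j.left ≫ pullback.fst (SpecOver k R).hom (SGA7.pt (K := k) kb).hom =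
        Spec.map (CommRingCat.ofHom f.toRingHom) ∧
      Submodule.span kb (f.range : Set A) = ⊤ := by
  let j0 : Spec (CommRingCat.of A) ⟶ pullback (Spec.map (CommRingCat.ofHom (algebraMap k R)))
      (Spec.map (CommRingCat.ofHom (algebraMap k kb))) := j.left
  have h0 : IsClosedImmersion j0 := hj
  exact exists_ringHom_aux R A j0 (Over.w j)

end ring

section count

variable {k : Type u} [Field k] [Finite k] {kb : Type u} [Field kb] [Algebra k kb] [IsAlgClosed kb]

theorem Fr_left (R : Type u) [CommRing R] [Algebra k R] : ∃ φ : R →+* R, (∀ r, φ r = r ^ Nat.card k) ∧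
    (Fr (SpecOver k R)).left = Spec.map (CommRingCat.ofHom φ) :=
  exists_Fr_left R (SpecOver k R).hom

/-- Fixed points of an endomorphism, as algebra maps. -/
theorem fixed_equiv {K : Type u} [Field K] (A : Type u) [CommRing A] [HopfAlgebra K A] (Φ : A →ₐ[K] A) :
    Nonempty ({x : 𝟙_ (Over (Spec (CommRingCat.of K))) ⟶ SpecOver K A // x ≫ specMap K Φ = x} ≃
      {χ : A →ₐ[K] K // χ.comp Φ = χ}) := by
  refine ⟨Equiv.subtypeEquiv ((Sga3B.RG.BrPts.ptEquiv K A).toEquiv.symm.trans (WithConv.equiv _)) fun x => ?_⟩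
  obtain ⟨g, rfl⟩ := (Sga3B.RG.BrPts.ptEquiv K A).surjective x
  have h1 : (Sga3B.RG.BrPts.ptEquiv K A).toEquiv.symm (Sga3B.RG.BrPts.ptEquiv K A g) = g :=
    (Sga3B.RG.BrPts.ptEquiv K A).toEquiv.symm_apply_apply g
  have h2 := Sga3B.RG.BrPts.ptEquiv_comp (K := K) g.ofConv Φ
  rw [Equiv.trans_apply, h1]
  change (Sga3B.RG.BrPts.ptEquiv K A g) ≫ specMap K Φ = Sga3B.RG.BrPts.ptEquiv K A g ↔ g.ofConv.comp Φ = g.ofConv
  have h3 : (Sga3B.RG.BrPts.ptEquiv K A g) ≫ specMap K Φ =
      Sga3B.RG.BrPts.ptEquiv K A (WithConv.toConv (g.ofConv.comp Φ)) := h2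
  rw [h3]
  constructor
  · intro h
    exact congrArg WithConv.ofConv ((Sga3B.RG.BrPts.ptEquiv K A).injective h)
  · intro h
    rw [h]

theorem card_aux (R : Type u) [CommRing R] [HopfAlgebra k R] [Algebra.FiniteType k R]
    (A : Type u) [CommRing A] [HopfAlgebra kb A] [Algebra.FiniteType kb A] [IsDomain A]
    (j : SpecOver kb A ⟶ bcK kb (SpecOver k R)) [IsMonHom j] [Mono j] (F : SpecOver kb A ⟶ SpecOver kb A) [IsMonHom F]
    (hF : F ≫ j = j ≫ FrK kb (SpecOver k R)) (hN : Red.HasNoSubtorus kb (SpecOver kb A)) (d : ℕ)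
    (hd : ringKrullDim A = d) :
    Nat.card {x : 𝟙_ (Over (Spec (CommRingCat.of kb))) ⟶ SpecOver kb A // x ≫ F = x} = Nat.card k ^ d := by
  let _ : Algebra k A := Algebra.compHom A (algebraMap k kb)
  have : IsScalarTower k kb A := IsScalarTower.of_algebraMap_eq fun x => rfl
  have hlft1 : LocallyOfFiniteType (SpecOver kb A).hom := Sga3B.RG.BrPts.lft_specOver A
  have hlft2 : LocallyOfFiniteType (SpecOver k R).hom := Sga3B.RG.BrPts.lft_specOver R
  have hlft3 : LocallyOfFiniteType (bcK kb (SpecOver k R)).hom := by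
    change LocallyOfFiniteType (pullback.snd _ _)
    infer_instance
  have hcl : IsClosedImmersion j.left := by
    have h1 : IsAffineHom (bcK kb (SpecOver k R)).hom := by
      have : IsAffineHom (SpecOver k R).hom := inferInstanceAs (IsAffineHom (Spec.map _))
      change IsAffineHom (pullback.snd _ _)
      infer_instance
    have h2 : IsAffine (bcK kb (SpecOver k R)).left := isAffine_of_isAffineHom (bcK kb (SpecOver k R)).hom
    have h3 : IsAffineHom j.left := isAffineHom_of_isAffine j.left
    exact Groth.Agent.S3036.result kb _ _ j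
  obtain ⟨f, hf1, hf2⟩ := exists_ringHom R A j
  obtain ⟨Φ, rfl⟩ := (specEquiv kb (A := A) (B := A)).surjective F
  change IsMonHom (specMap kb Φ) at *
  change specMap kb Φ ≫ j = _ at hF
  have hΦ : ∀ a ∈ f.range, Φ a = a ^ Nat.card k := by
    rintro _ ⟨r, rfl⟩
    obtain ⟨φ, hφ1, hφ2⟩ := Fr_left (k := k) R
    have e1 := congrArg (fun g => g.left ≫ pullback.fst (SpecOver k R).hom (SGA7.pt (K := k) kb).hom) hF
    have e2 : (FrK kb (SpecOver k R)).left ≫ pullback.fst (SpecOver k R).hom (SGA7.pt (K := k) kb).hom =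
      pullback.fst (SpecOver k R).hom (SGA7.pt (K := k) kb).hom ≫ (Fr (SpecOver k R)).left := pullback.lift_fst _ _ _
    simp only [Over.comp_left, Category.assoc] at e1
    rw [hf1, e2, reassoc_of% hf1, hφ2, specMap_left] at e1
    have e4 : Spec.map (CommRingCat.ofHom f.toRingHom ≫ CommRingCat.ofHom Φ.toRingHom) =
        Spec.map (CommRingCat.ofHom φ ≫ CommRingCat.ofHom f.toRingHom) := by
      rw [Spec.map_comp, Spec.map_comp]
      exact e1
    have e3 := RingHom.congr_fun (congrArg CommRingCat.Hom.hom (Spec.map_injective e4)) r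
    change Φ (f r) = f (φ r) at e3
    rw [hφ1, map_pow] at e3
    exact e3
  obtain ⟨p, _, hp, hchar, _, _⟩ := K815.Frob.exists_pn k
  have hcharkb : CharP kb p := charP_of_injective_algebraMap (algebraMap k kb).injective p
  -- the group is killed by a power of `p`
  obtain ⟨n0, hn0⟩ : ∃ n : ℕ, ∀ (X : Over (Spec (CommRingCat.of kb))) (g : X ⟶ SpecOver kb A), g ^ p ^ n = 1 := by
    have hsc := (Sga3B.RG.BrPts.isDomain_iff (K := kb) A).2 inferInstance
    have hsm := hsc.1
    have hcn := hsc.2
    have hcl1 : IsClosedImmersion (𝟙 (SpecOver kb A) : SpecOver kb A ⟶ SpecOver kb A).left :=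
      inferInstanceAs (IsClosedImmersion (𝟙 (Spec (CommRingCat.of A))))
    have hU : IsUnipotent kb A := by
      apply K543.UnipHopf.isUnipotent_of_isUnip
      intro g
      exact Sga3B.RadOpen.isUnip_of_hasNoSubtorus (𝟙 (SpecOver kb A)) hN g
        ⟨Sga3B.RG.BrPts.ptEquiv _ _ g, Category.comp_id _⟩
    exact K543.UnipPts.pow_eq_one_of_isUnipotent p hU (Iso.refl (SpecOver kb A))
  have hmon : ∀ m : ℕ, IsMonHom (specMap kb (Φ ^ m)) := by
    intro m
    induction m with
    | zero =>
      rw [pow_zero]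
      have : specMap kb (1 : A →ₐ[kb] A) = 𝟙 (SpecOver kb A) := specMap_id kb
      rw [this]
      infer_instance
    | succ m ih =>
      rw [pow_succ]
      have : specMap kb (Φ ^ m * Φ) = specMap kb (Φ ^ m) ≫ specMap kb Φ := specMap_comp kb Φ (Φ ^ m)
      rw [this]
      infer_instance
  have H := K869.Desc.card_eq (k := k) f.range (by
      rw [Subalgebra.fg_iff_finiteType]
      exact Algebra.FiniteType.of_surjective f.rangeRestrict f.rangeRestrict_surjective) hf2 Φ hΦ d hd hp.out
    (fun m _ hfin => by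
      have hm := hmon m
      let S : Subgroup (𝟙_ (Over (Spec (CommRingCat.of kb))) ⟶ SpecOver kb A) :=
        { carrier := {x | x ≫ specMap kb (Φ ^ m) = x}
          mul_mem' := fun {x y} hx hy => by
            change (x * y) ≫ specMap kb (Φ ^ m) = x * y
            rw [MonObj.mul_comp]
            exact congrArg₂ _ hx hy
          one_mem' := MonObj.one_comp _
          inv_mem' := fun {x} hx => by
            change x⁻¹ ≫ specMap kb (Φ ^ m) = x⁻¹
            rw [GrpObj.inv_comp]
            exact congrArg _ hx }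
      have e : S ≃ {χ : A →ₐ[kb] kb // χ.comp (Φ ^ m) = χ} := (fixed_equiv A (Φ ^ m)).some
      have hSf : Finite S := Finite.of_equiv _ e.symm
      have hS : IsPGroup p S := fun x => ⟨n0, Subtype.ext (hn0 _ x.1)⟩
      obtain ⟨n, hn⟩ := IsPGroup.iff_card.mp hS
      exact ⟨n, by rw [← hn]; exact Nat.card_congr e.symm⟩)
  rw [← H]
  exact Nat.card_congr (fixed_equiv A Φ).some

/-- **The number of fixed points of a twisted Frobenius on a connected unipotent group.** -/
theorem card_fixed (B : Over (Spec (CommRingCat.of k))) [GrpObj B] [IsAffineHom B.hom] [LocallyOfFiniteType B.hom]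
    (N : Over (Spec (CommRingCat.of kb))) [GrpObj N] [Smooth N.hom] [IsAffineHom N.hom] [ConnectedSpace N.left]
    (hN : Red.HasNoSubtorus kb N) (j : N ⟶ bcK kb B) [IsMonHom j] [Mono j] (b : SGA7.Pts kb B) (F : N ⟶ N)
    (hF : F ≫ j = j ≫ FrK kb B ≫ innK kb b) (d : ℕ) (hd : topologicalKrullDim ↥N.left = (d : WithBot ℕ∞)) :
    Nat.card {x : 𝟙_ (Over (Spec (CommRingCat.of kb))) ⟶ N // x ≫ F = x} = Nat.card k ^ d := by
  have h2 : IsMonHom (F ≫ j) := by rw [hF]; infer_instance
  have h3 : IsMonHom F := by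
    constructor
    · rw [← cancel_mono j, Category.assoc, IsMonHom.one_hom (F ≫ j), IsMonHom.one_hom j]
    · rw [← cancel_mono j, Category.assoc, IsMonHom.mul_hom (F ≫ j), Category.assoc, IsMonHom.mul_hom j,
        ← Category.assoc, tensorHom_comp_tensorHom]
  obtain ⟨R, _, _, w, hw, hwm, hRft, hRsm, hRcn⟩ := K869.Emb.exists_emb B
  obtain ⟨j', hj', hjm', hFj⟩ := K869.Emb.untwist B (SpecOver k R) w N j b F hF
  have hNaff : IsAffine N.left := isAffine_of_isAffineHom N.hom
  obtain ⟨A, _, _, e, he, hft⟩ := Sga3B.RG.BrHc.exists_hopf_ft N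
  have hiso : IsIso e.hom.left := inferInstanceAs (IsIso ((Over.forget _).map e.hom))
  have hiso' : IsIso e.symm.hom.left := inferInstanceAs (IsIso ((Over.forget _).map e.inv))
  have hsm : Smooth (SpecOver kb A).hom := by
    rw [hom_eq_of_iso e.symm]; infer_instance
  have hcon : ConnectedSpace ↥(SpecOver kb A).left :=
    (Scheme.homeoOfIso (asIso e.hom.left)).surjective.connectedSpace
      (Scheme.homeoOfIso (asIso e.hom.left)).continuous
  have hdom : IsDomain A := (Sga3B.RG.BrPts.isDomain_iff (K := kb) A).1 ⟨hsm, hcon⟩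
  have he' : IsMonHom e.inv := inferInstance
  have hdim : ringKrullDim A = d := by
    rw [← hd, ← PrimeSpectrum.topologicalKrullDim_eq_ringKrullDim]
    exact ((Scheme.homeoOfIso (asIso e.hom.left)).isHomeomorph.topologicalKrullDim_eq).symm
  have hm1 : Mono (e.inv ≫ j') := mono_comp _ _
  rw [← card_aux R A (e.inv ≫ j') (e.inv ≫ F ≫ e.hom) (by
    rw [Category.assoc, Category.assoc, Iso.hom_inv_id_assoc, hFj, Category.assoc])
    (Sga3B.RadOpen.hasNoSubtorus_of_iso e hN) d hdim]
  refine Nat.card_congr (Equiv.subtypeEquiv ⟨fun x => x ≫ e.hom, fun x => x ≫ e.inv, fun x => by simp,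
    fun x => by simp⟩ fun x => ?_)
  change x ≫ F = x ↔ (x ≫ e.hom) ≫ e.inv ≫ F ≫ e.hom = x ≫ e.hom
  rw [Category.assoc, Iso.hom_inv_id_assoc, ← Category.assoc, cancel_mono]

end count

end K869.Unip
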